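import Cfsg.Agent.Lib.TwoDegrees.Basic
import Cfsg.Agent.Lib.Chars17.IrrBasic
import Cfsg.Agent.Lib.Characters.Ramified
import Cfsg.Agent.S4458

/-!
# Three character degrees: preliminaries
-/

set_option autoImplicit false
set_option linter.style.haveILetI false
set_option linter.unusedSectionVars false

namespace CfsgLib.ThreeDegrees

open Cfsg CfsgLib.Characters CfsgLib.CharCorr
open scoped ComplexConjugate commutatorElement

universe u

/-- All degrees lie in `{1, m, n}`. -/
def DegIn (G : Type u) [Group G] (m n : ℕ) : Prop :=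
  ∀ χ : IrrCharacter G, charDegree (χ : G → ℂ) = 1 ∨ charDegree (χ : G → ℂ) = m ∨
    charDegree (χ : G → ℂ) = n

theorem DegIn.symm {G : Type u} [Group G] {m n : ℕ} (h : DegIn G m n) : DegIn G n m := fun χ => by
  rcases h χ with h | h | h
  exacts [Or.inl h, Or.inr (Or.inr h), Or.inr (Or.inl h)]

variable {G : Type u} [Group G] [Finite G]

theorem commutator_eq_bot_of_linear
    (h : ∀ χ : IrrCharacter G, charDegree (χ : G → ℂ) = 1) : commutator G = ⊥ := by
  haveI := Fintype.ofFinite G
  rw [commutator_def, eq_bot_iff, Subgroup.commutator_le]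
  intro a _ b _
  exact commutatorElement_eq_one_iff_mul_comm.2 (CfsgLib.ItoMichler.comm_of_degree_one h a b)

theorem derived_two {m : ℕ}
    (h : ∀ χ : IrrCharacter G, charDegree (χ : G → ℂ) = 1 ∨ charDegree (χ : G → ℂ) = m) :
    derivedSeries G 2 = ⊥ := by
  rw [show derivedSeries G 2 = ⁅commutator G, commutator G⁆ by
    rw [derivedSeries_succ, derivedSeries_one]]
  by_cases h1 : ∀ χ : IrrCharacter G, charDegree (χ : G → ℂ) = 1
  · rw [commutator_eq_bot_of_linear h1, Subgroup.commutator_bot_left]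
  · push Not at h1
    obtain ⟨χ, hχ⟩ := h1
    have hm : charDegree (χ : G → ℂ) = m := (h χ).resolve_left hχ
    have := Cfsg.Agent.S4458.result m h ⟨χ, hm⟩ (hm ▸ hχ)
    rw [eq_bot_iff, Subgroup.commutator_le]
    intro a ha b hb
    exact commutatorElement_eq_one_iff_mul_comm.2 (this a ha b hb)

theorem derived_le_map_add (L : Subgroup G) {a b : ℕ}
    (h : derivedSeries G a ≤ (derivedSeries L b).map L.subtype) :
    ∀ c : ℕ, derivedSeries G (a + c) ≤ (derivedSeries L (b + c)).map L.subtype
  | 0 => h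
  | c + 1 => by
    rw [← Nat.add_assoc, ← Nat.add_assoc, derivedSeries_succ, derivedSeries_succ,
      Subgroup.map_commutator]
    exact Subgroup.commutator_mono (derived_le_map_add L h c) (derived_le_map_add L h c)

theorem commutator_le_of_quot_linear (M : Subgroup G) [M.Normal]
    (h : ∀ χ : IrrCharacter G, M ≤ Chars17.irrKer χ → charDegree (χ : G → ℂ) = 1) :
    commutator G ≤ M := by
  have hbot : commutator (G ⧸ M) = ⊥ := commutator_eq_bot_of_linear fun η => by
    rw [← h _ (Chars17.le_irrKer_infl M η)]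
    exact congrArg (fun z : ℂ => ⌊z.re⌋₊) (show (η : G ⧸ M → ℂ) 1 = (Chars17.infl M η : G → ℂ) 1
      by rw [Chars17.infl_apply, QuotientGroup.mk_one])
  intro x hx
  have : (x : G ⧸ M) ∈ commutator (G ⧸ M) := by
    rw [← derivedSeries_one] at hx ⊢
    exact map_derivedSeries_le_derivedSeries (QuotientGroup.mk' M) 1 ⟨x, hx, rfl⟩
  rw [hbot, Subgroup.mem_bot] at this
  exact (QuotientGroup.eq_one_iff x).1 this

theorem derived_le_of_quot (M : Subgroup G) [M.Normal] {d : ℕ}
    (h : derivedSeries (G ⧸ M) d = ⊥) : derivedSeries G d ≤ M := by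
  intro x hx
  have := map_derivedSeries_le_derivedSeries (QuotientGroup.mk' M) d ⟨x, hx, rfl⟩
  rw [h, Subgroup.mem_bot] at this
  exact (QuotientGroup.eq_one_iff x).1 this

theorem infl_degree (M : Subgroup G) [M.Normal] (η : IrrCharacter (G ⧸ M)) :
    charDegree (Chars17.infl M η : G → ℂ) = charDegree (η : G ⧸ M → ℂ) :=
  LinearTwist.charDegree_eq_of_apply_one
    (by rw [Chars17.infl_apply, QuotientGroup.mk_one, irr_one_eq_charDegree])

theorem DegIn.quot {m n : ℕ} (h : DegIn G m n) (M : Subgroup G) [M.Normal] :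
    DegIn (G ⧸ M) m n := fun η => by
  rw [← infl_degree M η]; exact h _

/-- A constituent on a normal subgroup: the degree ratio divides the index. -/
theorem exists_below (N : Subgroup G) [N.Normal] [Fintype N] (χ : IrrCharacter G) :
    ∃ θ : IrrCharacter N, classInner (fun x : N => (χ : G → ℂ) x) (θ : N → ℂ) ≠ 0 ∧
      ∃ k : ℕ, charDegree (χ : G → ℂ) = k * charDegree (θ : N → ℂ) ∧ k ∣ N.index := by
  classical
  haveI := Fintype.ofFinite G
  have hres := Clifford.isCharacter_subtype (irr_isCharacter χ) N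
  obtain ⟨θ, hθ⟩ := Clifford.exists_constituent hres (fun h => irr_one_ne_zero χ (congrFun h 1))
  obtain ⟨k, hk, hkd⟩ := Ramified.degree_ratio_dvd_index N χ.2 θ.2 hθ
  refine ⟨θ, hθ, k, ?_, hkd⟩
  rw [irr_one_eq_charDegree χ, irr_one_eq_charDegree θ] at hk
  exact_mod_cast hk

/-- A character over one of a normal subgroup: the degree ratio divides the index. -/
theorem exists_above (N : Subgroup G) [N.Normal] [Fintype N] (θ : IrrCharacter N) :
    ∃ χ : IrrCharacter G, classInner (fun x : N => (χ : G → ℂ) x) (θ : N → ℂ) ≠ 0 ∧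
      ∃ k : ℕ, charDegree (χ : G → ℂ) = k * charDegree (θ : N → ℂ) ∧ k ∣ N.index := by
  classical
  haveI := Fintype.ofFinite G
  have hind := Induction.isCharacter_indFun N (irr_isCharacter θ)
  have hne : indFun N (θ : N → ℂ) ≠ 0 := fun h => by
    have := congrFun h 1
    rw [Induction.indFun_one_apply, Pi.zero_apply, mul_eq_zero] at this
    exact this.elim (fun h0 => Subgroup.index_ne_zero_of_finite (Nat.cast_eq_zero.1 h0))
      (irr_one_ne_zero θ)
  obtain ⟨χ, hχ⟩ := Clifford.exists_constituent hind hne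
  have hcon : classInner (fun x : N => (χ : G → ℂ) x) (θ : N → ℂ) ≠ 0 := fun h => hχ (by
    rw [Induction.classInner_indFun N _ (irr_isClassFunction χ), classInner_conj_symm, h,
      map_zero])
  obtain ⟨k, hk, hkd⟩ := Ramified.degree_ratio_dvd_index N χ.2 θ.2 hcon
  refine ⟨χ, hcon, k, ?_, hkd⟩
  rw [irr_one_eq_charDegree χ, irr_one_eq_charDegree θ] at hk
  exact_mod_cast hk

/-- If the degree ratio is coprime to the index the restriction is irreducible. -/
theorem res_irr_of_coprime (N : Subgroup G) [N.Normal] [Fintype N] (χ : IrrCharacter G)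
    (h : (charDegree (χ : G → ℂ)).Coprime N.index) :
    IsIrrCharacter N (fun x : N => (χ : G → ℂ) x) := by
  classical
  haveI := Fintype.ofFinite G
  obtain ⟨θ, hθ, k, hk, hkd⟩ := exists_below N χ
  have hk1 : k = 1 := Nat.eq_one_of_dvd_coprimes h (hk ▸ dvd_mul_right k _) hkd
  rw [hk1, one_mul] at hk
  obtain ⟨c, hc, hsum⟩ := Clifford.exists_mult (Clifford.isCharacter_subtype (irr_isCharacter χ) N)
  have hdeg : ∑ ξ : IrrCharacter N, c ξ * charDegree (ξ : N → ℂ) = charDegree (θ : N → ℂ) := by
    rw [← hk]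
    have := congrFun hsum 1
    simp only [Finset.sum_apply, Pi.smul_apply, smul_eq_mul, irr_one_eq_charDegree,
      Subgroup.coe_one] at this
    exact_mod_cast this.symm
  have hcθ : 1 ≤ c θ := Nat.pos_of_ne_zero fun h0 => hθ (by rw [hc, h0, Nat.cast_zero])
  have hsplit := Finset.add_sum_erase Finset.univ (fun ξ : IrrCharacter N =>
    c ξ * charDegree (ξ : N → ℂ)) (Finset.mem_univ θ)
  rw [hdeg] at hsplit
  have hle : charDegree (θ : N → ℂ) ≤ c θ * charDegree (θ : N → ℂ) :=
    Nat.le_mul_of_pos_left _ hcθ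
  have hrest : ∑ ξ ∈ Finset.univ.erase θ, c ξ * charDegree (ξ : N → ℂ) = 0 := by
    omega
  have hc1 : c θ = 1 := by
    have hh : c θ * charDegree (θ : N → ℂ) = 1 * charDegree (θ : N → ℂ) := by
      omega
    exact Nat.eq_of_mul_eq_mul_right (charDegree_irr_pos θ) hh
  rw [hsum, Finset.sum_eq_single θ (fun ξ _ hξ => by
    have := (Finset.sum_eq_zero_iff.1 hrest) ξ (Finset.mem_erase.2 ⟨hξ, Finset.mem_univ _⟩)
    rw [(mul_eq_zero.1 this).resolve_right (charDegree_irr_pos ξ).ne', Nat.cast_zero, zero_smul])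
    (fun h => absurd (Finset.mem_univ _) h), hc1, Nat.cast_one, one_smul]
  exact θ.2

end CfsgLib.ThreeDegrees
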