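import Cfsg.Agent.Lib.ThreeDegrees.Basic
import Cfsg.Agent.Lib.Characters.BrauerPerm
import Cfsg.Agent.Lib.Characters.BurnsideBrauer

/-!
# Three character degrees: all nonlinear characters faithful
-/

set_option autoImplicit false
set_option linter.style.haveILetI false
set_option linter.unusedSectionVars false

namespace CfsgLib.ThreeDegrees

open Cfsg CfsgLib.Characters CfsgLib.CharCorr
open scoped ComplexConjugate

universe u

variable {G : Type u} [Group G] [Fintype G] {m n : ℕ}

theorem classInner_mul_conj (a b c : G → ℂ) :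
    classInner (fun g => a g * conj (b g)) c = classInner a (fun g => c g * b g) := by
  simp [classInner, mul_assoc, mul_comm, mul_left_comm]

theorem classInner_mul_conj_swap (a b c : G → ℂ) :
    classInner (fun g => a g * conj (b g)) c = classInner (fun g => a g * conj (c g)) b := by
  simp [classInner, mul_assoc, mul_comm, mul_left_comm]

/-- The multiplicities of a character, split by degree. -/
theorem split_degree (hdeg : DegIn G m n) (hm : 1 < m) (hn : 1 < n) (hmn : m ≠ n)
    {F : G → ℂ} (hF : IsCharacter G F) (M : ℕ) (hM : F 1 = M) :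
    ∃ c : IrrCharacter G → ℕ, F = ∑ η : IrrCharacter G, (c η : ℂ) • (η : G → ℂ) ∧
      (∀ η : IrrCharacter G, classInner F (η : G → ℂ) = (c η : ℂ)) ∧
      ∃ l x y : ℕ, M = l + x * m + y * n ∧
        (∀ η : IrrCharacter G, charDegree (η : G → ℂ) = 1 → c η ≤ l) ∧
        (∀ η : IrrCharacter G, charDegree (η : G → ℂ) = m → c η ≤ x) ∧
        (∀ η : IrrCharacter G, charDegree (η : G → ℂ) = n → c η ≤ y) ∧
        (l ≠ 0 → ∃ η : IrrCharacter G, charDegree (η : G → ℂ) = 1 ∧ c η ≠ 0) := by
  classical
  obtain ⟨c, hc, hsum⟩ := Clifford.exists_mult hF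
  let S : ℕ → Finset (IrrCharacter G) := fun a =>
    Finset.univ.filter fun η => charDegree (η : G → ℂ) = a
  refine ⟨c, hsum, hc, ∑ η ∈ S 1, c η, ∑ η ∈ S m, c η, ∑ η ∈ S n, c η, ?_, ?_, ?_, ?_, ?_⟩
  · have h := congrFun hsum 1
    simp only [Finset.sum_apply, Pi.smul_apply, smul_eq_mul, irr_one_eq_charDegree, hM] at h
    have h' : M = ∑ η : IrrCharacter G, c η * charDegree (η : G → ℂ) := by exact_mod_cast h
    rw [h']
    simp only [S, Finset.sum_filter, Finset.sum_mul, ← Finset.sum_add_distrib]
    refine Finset.sum_congr rfl fun η _ => ?_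
    rcases hdeg η with he | he | he
    · rw [if_pos he, if_neg (by omega), if_neg (by omega), he]; simp
    · rw [if_pos he, if_neg (by omega), if_neg (by omega), he]; simp
    · rw [if_pos he, if_neg (by omega), if_neg (by omega), he]; simp
  · exact fun η h => Finset.single_le_sum (fun _ _ => Nat.zero_le _) (by simp [S, h])
  · exact fun η h => Finset.single_le_sum (fun _ _ => Nat.zero_le _) (by simp [S, h])
  · exact fun η h => Finset.single_le_sum (fun _ _ => Nat.zero_le _) (by simp [S, h])
  · intro h
    obtain ⟨η, hη, hne⟩ := Finset.exists_ne_zero_of_sum_ne_zero h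
    exact ⟨η, (Finset.mem_filter.1 hη).2, hne⟩

/-- With coprime degrees, some nonlinear character is not faithful on the derived subgroup. -/
theorem no_faithful (hdeg : DegIn G m n) (hm : 1 < m) (hmn : m < n) (hcop : m.Coprime n)
    (hmm : ∃ χ : IrrCharacter G, charDegree (χ : G → ℂ) = m)
    (hnn : ∃ χ : IrrCharacter G, charDegree (χ : G → ℂ) = n)
    (hfaith : ∀ χ : IrrCharacter G, charDegree (χ : G → ℂ) ≠ 1 →
      Chars17.irrKer χ = ⊥ ∧ ¬ commutator G ≤ Chars17.irrKer χ) : False := by
  classical
  have hn : 1 < n := by omega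
  -- products of degree `m` characters with conjugates of degree `n` ones
  have pure : ∀ χ ψ : IrrCharacter G, charDegree (χ : G → ℂ) = m → charDegree (ψ : G → ℂ) = n →
      ∀ χ' : IrrCharacter G, charDegree (χ' : G → ℂ) = m →
        classInner (fun g => (χ : G → ℂ) g * conj ((ψ : G → ℂ) g)) (χ' : G → ℂ) = 0 := by
    intro χ ψ hχ hψ χ₀ hχ₀
    by_contra hne
    set F : G → ℂ := fun g => (χ : G → ℂ) g * conj ((ψ : G → ℂ) g) with hF
    have hFc : IsCharacter G F :=
      isCharacter_mul (irr_isCharacter χ) (isCharacter_conj (irr_isCharacter ψ))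
    have hF1 : F 1 = ((m * n : ℕ) : ℂ) := by
      simp [hF, irr_one_eq_charDegree, hχ, hψ]
    obtain ⟨c, hsum, hc, l, x, y, htot, hl, hx, hy, hle⟩ :=
      split_degree hdeg hm hn hmn.ne hFc _ hF1
    have hl0 : l = 0 := by
      by_contra hl0
      obtain ⟨η, hη, hη0⟩ := hle hl0
      obtain ⟨f, hf⟩ := LinearTwist.exists_hom_of_charDegree_one (irr_isCharacter η) hη
      apply (Nat.cast_ne_zero (R := ℂ)).2 hη0
      rw [← hc, hF, classInner_mul_conj_swap]
      have h1 := LinearTwist.isIrr_mul_hom χ.2 f⁻¹
      have e : (fun g => (χ : G → ℂ) g * conj ((η : G → ℂ) g)) =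
          fun g => (χ : G → ℂ) g * ((f⁻¹ g : ℂˣ) : ℂ) := by
        funext g
        rw [← irr_apply_inv η g]; simp only [hf, map_inv, MonoidHom.inv_apply]
      rw [e]
      refine classInner_irr_ne h1 ψ.2 fun h => ?_
      have := congrFun h 1
      rw [map_one, Units.val_one, mul_one, irr_one_eq_charDegree, irr_one_eq_charDegree, hχ,
        hψ] at this
      exact hmn.ne (Nat.cast_inj.1 this)
    have hy0 : y = 0 := by
      have hxpos : 0 < x := lt_of_lt_of_le
        (Nat.pos_of_ne_zero fun h => hne (by rw [hc, h, Nat.cast_zero])) (hx χ₀ hχ₀)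
      have hnx : n ∣ x := by
        refine hcop.symm.dvd_of_dvd_mul_right ?_
        have h1 : n ∣ x * m + y * n := ⟨m, by rw [hl0] at htot; simp at htot; rw [← htot]; ring⟩
        exact (Nat.dvd_add_left (dvd_mul_left n y)).1 h1
      obtain ⟨a, rfl⟩ := hnx
      have ha : 0 < a := Nat.pos_of_ne_zero fun h => by subst h; simp at hxpos
      by_contra hy0
      have : m * n < n * a * m + y * n := by
        have : n * m ≤ n * a * m := Nat.mul_le_mul_right m (Nat.le_mul_of_pos_right n ha)
        have : 0 < y * n := Nat.mul_pos (Nat.pos_of_ne_zero hy0) (by omega)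
        have : m * n = n * m := Nat.mul_comm m n
        omega
      omega
    -- every constituent is a twist of `χ`
    have htw : ∀ η : IrrCharacter G, c η ≠ 0 → ∀ g ∈ commutator G,
        (η : G → ℂ) g = (χ : G → ℂ) g := by
      intro η hη
      have hηm : charDegree (η : G → ℂ) = m := by
        rcases hdeg η with h | h | h
        · exact absurd (Nat.le_zero.1 (hl0 ▸ hl η h)) hη
        · exact h
        · exact absurd (Nat.le_zero.1 (hy0 ▸ hy η h)) hη
      set E : G → ℂ := fun g => (χ : G → ℂ) g * conj ((η : G → ℂ) g) with hE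
      have hEc : IsCharacter G E :=
        isCharacter_mul (irr_isCharacter χ) (isCharacter_conj (irr_isCharacter η))
      have hE1 : E 1 = ((m * m : ℕ) : ℂ) := by simp [hE, irr_one_eq_charDegree, hχ, hηm]
      obtain ⟨d, -, hd, l', x', y', htot', -, -, hy', hle'⟩ :=
        split_degree hdeg hm hn hmn.ne hEc _ hE1
      have hy1 : 0 < y' := by
        refine lt_of_lt_of_le (Nat.pos_of_ne_zero fun h => hη ?_) (hy' ψ hψ)
        have h2 : classInner F (η : G → ℂ) = 0 := by
          rw [hF, classInner_mul_conj_swap]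
          exact (hd ψ).trans (by rw [h, Nat.cast_zero])
        rw [hc] at h2
        exact_mod_cast h2
      have hl1 : l' ≠ 0 := by
        intro h0
        have hmy : m ∣ y' := by
          refine hcop.dvd_of_dvd_mul_right ?_
          have h1 : m ∣ x' * m + y' * n := ⟨m, by rw [h0] at htot'; simp at htot'; rw [← htot']⟩
          exact (Nat.dvd_add_right (dvd_mul_left m x')).1 h1
        have : m * n ≤ y' * n := Nat.mul_le_mul_right n (Nat.le_of_dvd hy1 hmy)
        have : m * m < m * n := Nat.mul_lt_mul_of_pos_left hmn (by omega)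
        omega
      obtain ⟨lam, hlam, hlam0⟩ := hle' hl1
      obtain ⟨f, hf⟩ := LinearTwist.exists_hom_of_charDegree_one (irr_isCharacter lam) hlam
      have e : (fun g => (χ : G → ℂ) g * conj ((lam : G → ℂ) g)) =
          fun g => (χ : G → ℂ) g * ((f⁻¹ g : ℂˣ) : ℂ) := by
        funext g
        rw [← irr_apply_inv lam g]; simp only [hf, map_inv, MonoidHom.inv_apply]
      have heq : (fun g => (χ : G → ℂ) g * ((f⁻¹ g : ℂˣ) : ℂ)) = (η : G → ℂ) := by
        by_contra hne'
        apply (Nat.cast_ne_zero (R := ℂ)).2 hlam0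
        rw [← hd, hE, classInner_mul_conj_swap, e]
        exact classInner_irr_ne (LinearTwist.isIrr_mul_hom χ.2 f⁻¹) η.2 hne'
      intro g hg
      rw [← heq]
      show _ * ((f⁻¹ g : ℂˣ) : ℂ) = _
      rw [show f⁻¹ g = 1 from Abelianization.commutator_subset_ker f⁻¹ hg, Units.val_one, mul_one]
    have hcn : ∀ g ∈ commutator G, (χ : G → ℂ) g * conj ((ψ : G → ℂ) g) =
        (n : ℂ) * (χ : G → ℂ) g := by
      have hev : ∀ g ∈ commutator G, F g = (∑ η : IrrCharacter G, (c η : ℂ)) * (χ : G → ℂ) g := by
        intro g hg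
        rw [hsum]
        simp only [Finset.sum_apply, Pi.smul_apply, smul_eq_mul, Finset.sum_mul]
        refine Finset.sum_congr rfl fun η _ => ?_
        by_cases hη : c η = 0
        · simp [hη]
        · rw [htw η hη g hg]
      have h1 := hev 1 (Subgroup.one_mem _)
      rw [hF1, irr_one_eq_charDegree, hχ, Nat.cast_mul, mul_comm] at h1
      have hm0 : (m : ℂ) ≠ 0 := Nat.cast_ne_zero.2 (by omega)
      intro g hg
      rw [show (χ : G → ℂ) g * conj ((ψ : G → ℂ) g) = F g from rfl, hev g hg,
        ← mul_right_cancel₀ hm0 h1]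
    have hvan : ∀ g ∈ commutator G, g ≠ 1 → (χ : G → ℂ) g = 0 := by
      intro g hg hg1
      by_contra h0
      have := mul_left_cancel₀ h0 ((hcn g hg).trans (mul_comm _ _))
      have hk : g ∈ Chars17.irrKer ψ := by
        rw [Chars17.mem_irrKer, irr_one_eq_charDegree, hψ]
        simpa using congrArg conj this
      rw [(hfaith ψ (by omega)).1, Subgroup.mem_bot] at hk
      exact hg1 hk
    haveI := Fintype.ofFinite (commutator G)
    have hres := Clifford.isCharacter_subtype (irr_isCharacter χ) (commutator G)
    have h1 : classInner (fun k : commutator G => (χ : G → ℂ) k)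
        (fun _ => (1 : ℂ)) ≠ 0 := by
      have : ∑ k : commutator G, (χ : G → ℂ) k * conj (1 : ℂ) = (m : ℂ) := by
        rw [Finset.sum_eq_single (1 : commutator G) (fun k _ hk => by
          rw [hvan k k.2 (fun h => hk (Subtype.ext h)), zero_mul]) (fun h => absurd (Finset.mem_univ _) h)]
        simp [irr_one_eq_charDegree, hχ]
      unfold classInner
      rw [this]
      exact mul_ne_zero (inv_ne_zero (Nat.cast_ne_zero.2 Nat.card_pos.ne'))
        (Nat.cast_ne_zero.2 (by omega))
    have hsm := Ramified.res_eq_smul_of_invariant (commutator G) χ.2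
      (isIrrCharacter_one (G := commutator G)) (fun _ _ => rfl) h1
    refine (hfaith χ (by omega)).2 fun g hg => Chars17.mem_irrKer.2 ?_
    have a := congrFun hsm ⟨g, hg⟩
    have b := congrFun hsm 1
    simp only [Pi.smul_apply, Subgroup.coe_one] at a b
    rw [a, b]
  -- powers of a faithful character of degree `m` avoid the degree `n`
  obtain ⟨χ, hχ⟩ := hmm
  obtain ⟨ψ₀, hψ₀⟩ := hnn
  have hpow : ∀ i : ℕ, ∀ ψ : IrrCharacter G, charDegree (ψ : G → ℂ) = n →
      classInner (fun g => (χ : G → ℂ) g ^ i) (ψ : G → ℂ) = 0 := by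
    intro i
    induction i with
    | zero =>
      intro ψ hψ
      rw [show (fun g => (χ : G → ℂ) g ^ 0) = fun _ => (1 : ℂ) from funext fun g => pow_zero _]
      refine classInner_irr_ne isIrrCharacter_one ψ.2 fun h => ?_
      have := congrFun h 1
      rw [irr_one_eq_charDegree, hψ] at this
      have : n = 1 := by exact_mod_cast this.symm
      omega
    | succ i ih =>
      intro ψ hψ
      have hc : IsCharacter G (fun g => (χ : G → ℂ) g ^ i) := by
        clear ih
        induction i with
        | zero =>
          rw [show (fun g => (χ : G → ℂ) g ^ 0) = fun _ => (1 : ℂ) from funext fun g => pow_zero _]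
          exact isCharacter_of_irr isIrrCharacter_one
        | succ i ih =>
          rw [show (fun g => (χ : G → ℂ) g ^ (i + 1)) =
            (fun g => (χ : G → ℂ) g ^ i) * (χ : G → ℂ) from funext fun g => pow_succ _ _]
          exact isCharacter_mul ih (irr_isCharacter χ)
      obtain ⟨a, ha, hsum⟩ := Clifford.exists_mult hc
      have e : (fun g => (χ : G → ℂ) g ^ (i + 1)) =
          ∑ η : IrrCharacter G, (a η : ℂ) • fun g => (η : G → ℂ) g * (χ : G → ℂ) g := by
        funext g
        rw [pow_succ, congrFun hsum g]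
        simp only [Finset.sum_apply, Pi.smul_apply, smul_eq_mul, Finset.sum_mul, mul_assoc]
      rw [e, classInner_sum_left]
      refine Finset.sum_eq_zero fun η _ => ?_
      rw [classInner_smul_left]
      by_cases hη : a η = 0
      · simp [hη]
      rcases hdeg η with h | h | h
      · obtain ⟨f, hf⟩ := LinearTwist.exists_hom_of_charDegree_one (irr_isCharacter η) h
        rw [show (fun g => (η : G → ℂ) g * (χ : G → ℂ) g) =
          fun g => (χ : G → ℂ) g * ((f g : ℂˣ) : ℂ) from funext fun g => by
            rw [hf]; exact mul_comm _ _,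
          classInner_irr_ne (LinearTwist.isIrr_mul_hom χ.2 f) ψ.2 (fun h' => by
            have := congrFun h' 1
            rw [map_one, Units.val_one, mul_one, irr_one_eq_charDegree, irr_one_eq_charDegree, hχ,
              hψ] at this
            exact hmn.ne (Nat.cast_inj.1 this)), mul_zero]
      · have hz := pure χ ψ hχ hψ (BrauerPerm.conjIrr η)
          ((LinearTwist.charDegree_eq_of_apply_one (n := m) (by
            rw [BrauerPerm.conjIrr_apply, irr_one_eq_charDegree, h, Complex.conj_natCast])))
        rw [show classInner (fun g => (η : G → ℂ) g * (χ : G → ℂ) g) (ψ : G → ℂ) =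
          classInner (fun g => (χ : G → ℂ) g * conj ((ψ : G → ℂ) g))
            (BrauerPerm.conjIrr η : G → ℂ) by
          simp [classInner, mul_assoc, mul_comm, mul_left_comm], hz, mul_zero]
      · refine absurd (?_ : a η = 0) hη
        have := ha η
        rw [ih η h] at this
        exact_mod_cast this.symm
  obtain ⟨d, ρ, hρ, hρc⟩ := χ.2
  have hinj : Function.Injective ρ := by
    intro g g' he
    have : g⁻¹ * g' ∈ Chars17.irrKer χ := by
      rw [Chars17.mem_irrKer, ← hρc]
      show LinearMap.trace ℂ _ (ρ (g⁻¹ * g')) = LinearMap.trace ℂ _ (ρ 1)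
      rw [map_mul, ← he, ← map_mul, inv_mul_cancel]
    rw [(hfaith χ (by omega)).1, Subgroup.mem_bot, inv_mul_eq_one] at this
    exact this
  obtain ⟨i, -, hi⟩ := BurnsideBrauer.exists_pow_classInner_ne_zero ρ hinj ψ₀.2
  exact hi (by rw [hρc]; exact hpow i ψ₀ hψ₀)

end CfsgLib.ThreeDegrees
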