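import Mathlib.GroupTheory.Solvable
import Mathlib.GroupTheory.Nilpotent
import Mathlib.GroupTheory.PGroup
import Mathlib.GroupTheory.Perm.Cycle.Type

/-!
# Solvable groups with abelian proper quotients
-/

set_option autoImplicit false
set_option linter.style.haveILetI false

namespace CfsgLib.ThreeDegrees

open scoped commutatorElement

variable {X : Type*} [Group X] [Finite X]

/-- The derived subgroup is abelian. -/
theorem comm_commutator [Group.IsSolvable X]
    (hmin : ∀ M : Subgroup X, M.Normal → M ≠ ⊥ → commutator X ≤ M) :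
    ∀ a ∈ commutator X, ∀ b ∈ commutator X, a * b = b * a := by
  have h : derivedSeries X 2 = ⊥ := by
    by_contra hne
    have h2 := hmin _ (derivedSeries_normal X 2) hne
    rw [← derivedSeries_one] at h2
    have h21 : derivedSeries X 2 = derivedSeries X 1 :=
      le_antisymm (derivedSeries_antitone X (by norm_num)) h2
    have hall : ∀ i, derivedSeries X (i + 1) = derivedSeries X 1 := by
      intro i
      induction i with
      | zero => rfl
      | succ i ih => rw [derivedSeries_succ, ih, ← derivedSeries_succ, h21]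
    obtain ⟨d, hd⟩ := Group.IsSolvable.solvable (G := X)
    have : derivedSeries X (d + 1) = ⊥ :=
      le_bot_iff.1 (hd ▸ derivedSeries_antitone X (Nat.le_succ d))
    rw [hall d, ← h21] at this
    exact hne this
  intro a ha b hb
  refine commutatorElement_eq_one_iff_mul_comm.1 ?_
  rw [← Subgroup.mem_bot, ← h, derivedSeries_succ, derivedSeries_one]
  exact Subgroup.commutator_mem_commutator ha hb

/-- Either a `p`-group, or the derived subgroup has fixed-point-free quotient. -/
theorem pgroup_or_free [Group.IsSolvable X] (hna : commutator X ≠ ⊥)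
    (hmin : ∀ M : Subgroup X, M.Normal → M ≠ ⊥ → commutator X ≤ M) :
    (∃ p : ℕ, p.Prime ∧ IsPGroup p X) ∨
      ∀ x ∉ commutator X, ∀ v ∈ commutator X, x * v = v * x → v = 1 := by
  set V := commutator X with hV
  have hab := comm_commutator hmin
  have hVn : V.Normal := inferInstance
  have hcV : ∀ a b : X, ⁅a, b⁆ ∈ V := fun a b =>
    Subgroup.commutator_mem_commutator (Subgroup.mem_top a) (Subgroup.mem_top b)
  by_cases hZ : V ≤ Subgroup.center X
  · left
    have hcen : ∀ z ∈ Subgroup.center X, z ≠ 1 → V ≤ Subgroup.zpowers z := fun z hz hz1 =>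
      hmin _ ⟨fun y hy g => by
        have hyc : y ∈ Subgroup.center X := (Subgroup.zpowers_le.2 hz) hy
        rwa [Subgroup.mem_center_iff.1 hyc g, mul_inv_cancel_right]⟩
        (fun h => hz1 (Subgroup.zpowers_eq_bot.1 h))
    haveI : Nontrivial V := (Subgroup.nontrivial_iff_ne_bot _).2 hna
    set p := (Nat.card V).minFac with hp
    have hpp : p.Prime := Nat.minFac_prime (Finite.one_lt_card (α := V)).ne'
    haveI : Fact p.Prime := ⟨hpp⟩
    obtain ⟨⟨v, hv⟩, hvp⟩ := exists_prime_orderOf_dvd_card' p (Nat.minFac_dvd (Nat.card V))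
    rw [← Subgroup.orderOf_coe] at hvp
    change orderOf v = p at hvp
    have hv1 : v ≠ 1 := fun h => by
      rw [h, orderOf_one] at hvp; exact hpp.one_lt.ne hvp
    have hVv : V ≤ Subgroup.zpowers v := hcen v (hZ hv) hv1
    have hVp : ∀ w ∈ V, w ^ p = 1 := fun w hw => by
      obtain ⟨i, rfl⟩ := Subgroup.mem_zpowers_iff.1 (hVv hw)
      rw [← zpow_natCast, ← zpow_mul, mul_comm, zpow_mul, zpow_natCast,
        show v ^ p = 1 from hvp ▸ pow_orderOf_eq_one v, one_zpow]
    have hZp : IsPGroup p (Subgroup.center X) := by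
      refine (IsPGroup.iff_card).2 ⟨_, Nat.eq_prime_pow_of_unique_prime_dvd Nat.card_pos.ne'
        fun {q} hq hqd => ?_⟩
      haveI : Fact q.Prime := ⟨hq⟩
      obtain ⟨⟨z, hz⟩, hzq⟩ := exists_prime_orderOf_dvd_card' q hqd
      rw [← Subgroup.orderOf_coe] at hzq
      change orderOf z = q at hzq
      have hz1 : z ≠ 1 := fun h => by
        rw [h, orderOf_one] at hzq; exact hq.one_lt.ne hzq
      have hmem : v ∈ Subgroup.zpowers z := hcen z hz hz1 hv
      have hd : p ∣ q := by
        rw [← hvp, ← hzq]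
        exact orderOf_dvd_of_mem_zpowers hmem
      exact ((Nat.prime_dvd_prime_iff_eq hpp hq).1 hd).symm
    refine ⟨p, hpp, fun x => ?_⟩
    have hxp : x ^ p ∈ Subgroup.center X := by
      rw [Subgroup.mem_center_iff]
      intro y
      have hc : ⁅y, x⁆ ∈ Subgroup.center X := hZ (hcV y x)
      have hpow : ∀ i : ℕ, y * x ^ i * y⁻¹ = ⁅y, x⁆ ^ i * x ^ i := by
        intro i
        induction i with
        | zero => simp
        | succ i ih =>
          calc y * x ^ (i + 1) * y⁻¹ = (y * x ^ i * y⁻¹) * (y * x * y⁻¹) := by rw [pow_succ]; group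
            _ = ⁅y, x⁆ ^ i * (x ^ i * ⁅y, x⁆) * x := by
              rw [ih, commutatorElement_def]; group
            _ = ⁅y, x⁆ ^ i * (⁅y, x⁆ * x ^ i) * x := by
              rw [Subgroup.mem_center_iff.1 hc (x ^ i)]
            _ = _ := by simp only [pow_succ, mul_assoc]
      have := hpow p
      rw [hVp _ (hcV y x), one_mul, mul_inv_eq_iff_eq_mul] at this
      exact this
    obtain ⟨j, hj⟩ := hZp ⟨x ^ p, hxp⟩
    refine ⟨j + 1, ?_⟩
    have := congrArg Subtype.val hj
    simp only [SubgroupClass.coe_pow, OneMemClass.coe_one] at this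
    rw [pow_succ', pow_mul, this]
  · right
    have hZ1 : Subgroup.center X = ⊥ := by
      by_contra h
      exact hZ (hmin _ inferInstance h)
    intro x hx
    by_cases hxC : ∀ v ∈ V, x * v = v * x
    · -- `x` centralises `V`; show that this is impossible
      exfalso
      obtain ⟨y, hy⟩ : ∃ y, ∃ v ∈ V, y * v ≠ v * y := by
        by_contra h
        push Not at h
        exact hZ fun v hv => Subgroup.mem_center_iff.2 fun g => h g v hv
      -- the commutator map of `y` on `V`
      let f : V →* V :=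
        { toFun := fun v => ⟨⁅y, (v : X)⁆, hcV _ _⟩
          map_one' := Subtype.ext (by simp)
          map_mul' := fun a b => Subtype.ext (by
            have := hab (a : X) a.2 ⁅y, (b : X)⁆ (hcV _ _)
            calc ⁅y, ((a * b : V) : X)⁆ = ⁅y, (a : X)⁆ * ((a : X) * ⁅y, (b : X)⁆ * (a : X)⁻¹) := by
                  simp only [Subgroup.coe_mul, commutatorElement_def]; group
              _ = ⁅y, (a : X)⁆ * ⁅y, (b : X)⁆ := by rw [this, mul_inv_cancel_right]) }
      have hker : f.ker = ⊥ := by
        by_contra hne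
        have hn : (f.ker.map V.subtype).Normal := ⟨by
          rintro _ ⟨a, ha, rfl⟩ g
          refine ⟨⟨g * a * g⁻¹, hVn.conj_mem _ a.2 g⟩, ?_, rfl⟩
          have ha' : y * (a : X) = (a : X) * y :=
            commutatorElement_eq_one_iff_mul_comm.1 (congrArg Subtype.val (MonoidHom.mem_ker.1 ha))
          refine MonoidHom.mem_ker.2 (Subtype.ext ?_)
          show ⁅y, g * (a : X) * g⁻¹⁆ = 1
          refine commutatorElement_eq_one_iff_mul_comm.2 ?_
          have hu : ⁅g⁻¹, y⁆ * (a : X) = (a : X) * ⁅g⁻¹, y⁆ := hab _ (hcV _ _) _ a.2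
          have h2 : g⁻¹ * y * g * (a : X) = (a : X) * (g⁻¹ * y * g) := by
            have e : g⁻¹ * y * g = ⁅g⁻¹, y⁆ * y := by rw [commutatorElement_def]; group
            rw [e, mul_assoc, ha', ← mul_assoc, hu, mul_assoc]
          calc y * (g * (a : X) * g⁻¹) = g * (g⁻¹ * y * g * (a : X)) * g⁻¹ := by group
            _ = g * ((a : X) * (g⁻¹ * y * g)) * g⁻¹ := by rw [h2]
            _ = _ := by group⟩
        have hVk := hmin _ hn (by
          rwa [Ne, Subgroup.map_eq_bot_iff, V.ker_subtype, le_bot_iff])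
        obtain ⟨v, hv, hyv⟩ := hy
        obtain ⟨a, ha, hav⟩ := hVk hv
        refine hyv (commutatorElement_eq_one_iff_mul_comm.1 ?_)
        rw [← hav]
        exact congrArg Subtype.val (MonoidHom.mem_ker.1 ha)
      have hsurj : Function.Surjective f :=
        Finite.surjective_of_injective ((MonoidHom.ker_eq_bot_iff f).1 hker)
      obtain ⟨v, hv⟩ := hsurj ⟨⁅y, x⁆, hcV _ _⟩
      have hv' : ⁅y, (v : X)⁆ = ⁅y, x⁆ := congrArg Subtype.val hv
      set z := (v : X)⁻¹ * x with hz
      have hzy : y * z = z * y := by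
        have e1 : y * x * y⁻¹ = ⁅y, x⁆ * x := by rw [commutatorElement_def]; group
        have e2 : y * (v : X) * y⁻¹ = ⁅y, (v : X)⁆ * (v : X) := by rw [commutatorElement_def]; group
        rw [← mul_inv_eq_iff_eq_mul]
        calc y * z * y⁻¹ = (y * (v : X) * y⁻¹)⁻¹ * (y * x * y⁻¹) := by rw [hz]; group
          _ = _ := by rw [e1, e2, hv', hz]; group
      have hzV : ∀ w ∈ V, z * w = w * z := fun w hw => by
        rw [hz, mul_assoc, hxC w hw, ← mul_assoc,
          hab _ (V.inv_mem v.2) w hw, mul_assoc]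
      have hzc : z ∈ Subgroup.center X := by
        rw [Subgroup.mem_center_iff]
        intro g
        have hker' : (⟨⁅g, z⁆, hcV _ _⟩ : V) ∈ f.ker := by
          refine MonoidHom.mem_ker.2 (Subtype.ext ?_)
          show ⁅y, ⁅g, z⁆⁆ = 1
          refine commutatorElement_eq_one_iff_mul_comm.2 ?_
          have hyz : y * z * y⁻¹ = z := mul_inv_eq_iff_eq_mul.2 hzy
          have e : y * ⁅g, z⁆ * y⁻¹ = ⁅y * g * y⁻¹, z⁆ := by
            conv_rhs => rw [← hyz]
            simp only [commutatorElement_def]; group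
          have hu : y * g * y⁻¹ = ⁅y, g⁆ * g := by rw [commutatorElement_def]; group
          rw [← mul_inv_eq_iff_eq_mul, e, hu]
          have h1 : ⁅⁅y, g⁆ * g, z⁆ = ⁅y, g⁆ * ⁅g, z⁆ * ⁅y, g⁆⁻¹ * ⁅⁅y, g⁆, z⁆ := by
            simp only [commutatorElement_def]; group
          rw [h1, commutatorElement_eq_one_iff_mul_comm.2 (hzV _ (hcV y g)).symm, mul_one,
            hab _ (hcV y g) _ (hcV g z), mul_inv_cancel_right]
        rw [hker, Subgroup.mem_bot] at hker'
        exact commutatorElement_eq_one_iff_mul_comm.1 (congrArg Subtype.val hker')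
      rw [hZ1, Subgroup.mem_bot, hz, inv_mul_eq_one] at hzc
      exact hx (hzc ▸ v.2)
    · intro v hv hxv
      let f : Subgroup X :=
        { carrier := {w | w ∈ V ∧ x * w = w * x}
          one_mem' := ⟨V.one_mem, by simp⟩
          mul_mem' := fun {a b} ha hb => ⟨V.mul_mem ha.1 hb.1, by
            rw [← mul_assoc, ha.2, mul_assoc, hb.2, mul_assoc]⟩
          inv_mem' := fun {a} ha => ⟨V.inv_mem ha.1, by
            rw [eq_inv_mul_iff_mul_eq, ← mul_assoc, ← ha.2, mul_inv_cancel_right]⟩ }
      have hn : f.Normal := ⟨fun a ha g => ⟨hVn.conj_mem _ ha.1 g, by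
        have hu : ⁅g⁻¹, x⁆ * a = a * ⁅g⁻¹, x⁆ := hab _ (hcV _ _) _ ha.1
        have h2 : g⁻¹ * x * g * a = a * (g⁻¹ * x * g) := by
          have e : g⁻¹ * x * g = ⁅g⁻¹, x⁆ * x := by rw [commutatorElement_def]; group
          rw [e, mul_assoc, ha.2, ← mul_assoc, hu, mul_assoc]
        calc x * (g * a * g⁻¹) = g * (g⁻¹ * x * g * a) * g⁻¹ := by group
          _ = g * (a * (g⁻¹ * x * g)) * g⁻¹ := by rw [h2]
          _ = _ := by group⟩⟩
      by_contra hv1
      exact hxC fun w hw => ((hmin f hn fun h => hv1 (by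
        have : v ∈ f := ⟨hv, hxv⟩
        rwa [h, Subgroup.mem_bot] at this)) hw).2

end CfsgLib.ThreeDegrees
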