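import Cfsg.Agent.Lib.ThreeDegrees.Basic
import Cfsg.Agent.Lib.ThreeDegrees.Minimal
import Cfsg.Agent.Lib.Characters.GoingDown
import Cfsg.Agent.Lib.OddChar.FrobeniusQuot
import Cfsg.Agent.S0856

/-!
# Three character degrees: coprime degrees, a solvable nonabelian quotient
-/

set_option autoImplicit false
set_option linter.style.haveILetI false
set_option linter.unusedSectionVars false

namespace CfsgLib.ThreeDegrees

open Cfsg CfsgLib.Characters CfsgLib.CharCorr
open scoped ComplexConjugate commutatorElement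

universe u

variable {G : Type u} [Group G] [Fintype G] {m n : ℕ}

/-- The `p`-group quotient is impossible. -/
theorem not_primePow_quot (hdeg : DegIn G m n) (hcop : m.Coprime n) (hm : 1 < m) (hn : 1 < n)
    (hnn : ∃ χ : IrrCharacter G, charDegree (χ : G → ℂ) = n) (p : ℕ) (hp : p.Prime)
    (K : Subgroup G) [K.Normal] (hK : IsPGroup p (G ⧸ K)) (η : IrrCharacter (G ⧸ K))
    (hη : charDegree (η : G ⧸ K → ℂ) = m) : False := by
  classical
  haveI := Fact.mk hp
  haveI := Fintype.ofFinite K
  obtain ⟨a, ha⟩ := IsPGroup.iff_card.1 hK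
  rw [← Subgroup.index_eq_card] at ha
  have hmd : m ∣ p ^ a := by
    rw [← hη, ← ha, Subgroup.index_eq_card]; exact charDegree_irr_dvd_card η
  obtain ⟨i, -, hi⟩ := (Nat.dvd_prime_pow hp).1 hmd
  have hi0 : i ≠ 0 := fun h => by rw [h, pow_zero] at hi; omega
  have hcn : n.Coprime (p ^ a) := by
    refine Nat.Coprime.pow_right a ?_
    have : (p ^ i).Coprime n := hi ▸ hcop
    exact ((Nat.coprime_pow_left_iff (Nat.pos_of_ne_zero hi0) p n).1 this).symm
  obtain ⟨χ, hχ⟩ := hnn
  have hres := res_irr_of_coprime K χ (by rw [hχ, ha]; exact hcn)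
  have hinv : ∀ (g : G) (x : K), (χ : G → ℂ) (g * x * g⁻¹) = (χ : G → ℂ) x :=
    fun g x => irr_isClassFunction χ (x : G) g
  have h1 : IsIrrCharacter K ((fun _ : K => (1 : ℂ)) * fun x : K => (χ : G → ℂ) x) := by
    rw [show ((fun _ : K => (1 : ℂ)) * fun x : K => (χ : G → ℂ) x) = fun x : K => (χ : G → ℂ) x
      from funext fun x => one_mul _]
    exact hres
  have hbij := Cfsg.Agent.S0856.result K (fun _ : K => (1 : ℂ)) (fun x : K => (χ : G → ℂ) x)
    isIrrCharacter_one hres (fun _ _ => rfl) hinv h1 (χ : G → ℂ) χ.2 (fun _ => rfl)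
  set β := Chars17.infl K η with hβ
  have hmem : (β : G → ℂ) ∈ {β : G → ℂ | IsIrrCharacter G β ∧
      classInner (indFun K fun _ : K => (1 : ℂ)) β ≠ 0} := by
    refine ⟨β.2, ?_⟩
    rw [Induction.classInner_indFun K _ (irr_isClassFunction β)]
    have : (fun x : K => (β : G → ℂ) x) = (m : ℂ) • fun _ : K => (1 : ℂ) := by
      funext x
      rw [hβ, Chars17.infl_apply, (QuotientGroup.eq_one_iff (x : G)).2 x.2, irr_one_eq_charDegree,
        hη]
      simp
    rw [this, classInner_smul_right, classInner_irr_self (isIrrCharacter_one (G := K))]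
    simp; omega
  have hprod := (hbij.mapsTo hmem).1
  have hd : charDegree ((β : G → ℂ) * (χ : G → ℂ)) = m * n :=
    LinearTwist.charDegree_eq_of_apply_one (by
      rw [Pi.mul_apply, irr_one_eq_charDegree, irr_one_eq_charDegree, hβ, infl_degree, hη, hχ,
        Nat.cast_mul])
  rcases hdeg ⟨_, hprod⟩ with h | h | h <;> rw [show charDegree
    ((⟨_, hprod⟩ : IrrCharacter G) : G → ℂ) = charDegree ((β : G → ℂ) * (χ : G → ℂ)) from rfl,
    hd] at h
  · have := (Nat.eq_one_of_mul_eq_one_right h); omega
  · have : n = 1 := Nat.eq_of_mul_eq_mul_left (show 0 < m by omega) (h.trans (mul_one m).symm)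
    omega
  · have : m = 1 := Nat.eq_of_mul_eq_mul_right (show 0 < n by omega) (h.trans (one_mul n).symm)
    omega

/-- The Frobenius quotient: the kernel has at most two degrees. -/
theorem of_free (K N : Subgroup G) [K.Normal] [N.Normal] [Fintype N] (hKN : K ≤ N)
    (hab : commutator N ≤ K.subgroupOf N) (hN : N ≠ ⊤) (hK : K ≠ N)
    (hfree : ∀ x ∉ N, ∀ v ∈ N, x * v * x⁻¹ * v⁻¹ ∈ K → v ∈ K)
    (hcop : m.Coprime n) (hm : 1 < m) (hn : 1 < n) (hdeg : DegIn G m n) :
    derivedSeries N 2 = ⊥ := by
  classical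
  haveI := Fintype.ofFinite K
  set K' : Subgroup N := K.subgroupOf N with hK'
  haveI hK'n : K'.Normal := inferInstance
  haveI := Fintype.ofFinite K'
  -- the index of the kernel
  have hf1 : 1 < N.index := Subgroup.one_lt_index_of_ne_top hN
  set Lam := {l : N →* ℂˣ // ∀ k ∈ K', l k = 1} with hLam
  have hcardL : Nat.card Lam = K'.index := GoingDown.card_homs_trivial K' hab
  have hfv : N.index ∣ K'.index - 1 := by
    set π := QuotientGroup.mk' K with hπ
    have hsurj : Function.Surjective π := QuotientGroup.mk'_surjective _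
    haveI : (N.map π).Normal := Subgroup.Normal.map inferInstance π hsurj
    have hC : ∀ v ∈ N.map π, v ≠ 1 → Subgroup.centralizer ({v} : Set (G ⧸ K)) = N.map π := by
      rintro _ ⟨v, hv, rfl⟩ hv1
      ext x
      obtain ⟨x, rfl⟩ := hsurj x
      rw [Subgroup.mem_centralizer_singleton_iff]
      constructor
      · intro hx
        by_contra hxN
        refine hv1 ((QuotientGroup.eq_one_iff v).2 (hfree x (fun h => hxN ⟨x, h, rfl⟩) v hv ?_))
        rw [← QuotientGroup.eq_one_iff]
        show π (x * v * x⁻¹ * v⁻¹) = 1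
        rw [map_mul, map_mul, map_mul, map_inv, map_inv, hx, mul_inv_cancel_right, mul_inv_cancel]
      · rintro ⟨y, hy, e⟩
        rw [← e, ← map_mul, ← map_mul]
        have hc : ⁅y, v⁆ ∈ K :=
          hab (Subgroup.commutator_mem_commutator (Subgroup.mem_top (⟨y, hy⟩ : N))
            (Subgroup.mem_top (⟨v, hv⟩ : N)))
        rw [show y * v = ⁅y, v⁆ * (v * y) by rw [commutatorElement_def]; group, map_mul,
          show π ⁅y, v⁆ = 1 from (QuotientGroup.eq_one_iff _).2 hc, one_mul]
    have h := OddChar.index_dvd_card_sub_one (N.map π) (N.map π) hC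
    rw [Subgroup.index_map_eq N hsurj (by rwa [hπ, QuotientGroup.ker_mk'])] at h
    have e : Nat.card (N.map π) = K'.index := by
      have hb : K.map π = ⊥ :=
        (Subgroup.map_eq_bot_iff K).mpr (by rw [hπ, QuotientGroup.ker_mk'])
      rw [← Subgroup.relIndex_bot_left, ← hb, Subgroup.relIndex_map_map, hπ, QuotientGroup.ker_mk',
        sup_idem, sup_eq_left.mpr hKN]
      rfl
    rwa [e] at h
  have hV1 : 1 < K'.index := Subgroup.one_lt_index_of_ne_top fun h => hK
    (le_antisymm hKN fun x hx => (show (⟨x, hx⟩ : N) ∈ K' from h ▸ Subgroup.mem_top _))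
  have hfV : (N.index).Coprime K'.index := by
    refine Nat.coprime_of_dvd fun q hq hqf hqV => ?_
    have h1 : q ∣ K'.index - 1 := hqf.trans hfv
    have := Nat.dvd_sub hqV h1
    rw [show K'.index - (K'.index - 1) = 1 by omega, Nat.dvd_one] at this
    exact hq.one_lt.ne' this
  -- fixed linear characters are trivial
  have hfix : ∀ x ∉ N, ∀ l : Lam, (∀ v : N,
      l.1 ⟨x * v * x⁻¹, ‹N.Normal›.conj_mem v v.2 x⟩ = l.1 v) → l.1 = 1 := by
    intro x hx l hl
    let cj : N →* N := Clifford.conjHom ‹N.Normal› x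
    have hcomm : ∀ s t : N ⧸ K', s * t = t * s := by
      intro s t
      induction s using QuotientGroup.induction_on with | H s => ?_
      induction t using QuotientGroup.induction_on with | H t => ?_
      rw [← commutatorElement_eq_one_iff_mul_comm]
      rw [← QuotientGroup.mk'_apply, ← QuotientGroup.mk'_apply, ← map_commutatorElement]
      exact (QuotientGroup.eq_one_iff _).2 (hab (Subgroup.commutator_mem_commutator
        (Subgroup.mem_top _) (Subgroup.mem_top _)))
    let f : N →* N ⧸ K' :=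
      { toFun := fun v => (QuotientGroup.mk (cj v) : N ⧸ K') * (QuotientGroup.mk v)⁻¹
        map_one' := by simp
        map_mul' := fun a b => by
          simp only [map_mul, QuotientGroup.mk_mul, mul_inv_rev]
          rw [mul_assoc, ← mul_assoc (QuotientGroup.mk (cj b) : N ⧸ K'),
            hcomm (QuotientGroup.mk (cj b) * (QuotientGroup.mk b)⁻¹), ← mul_assoc] }
    have hker : ∀ v, f v = 1 → v ∈ K' := fun v hv =>
      hfree x hx v v.2 ((QuotientGroup.eq_one_iff (N := K')
        (cj v * v⁻¹ : N)).1 (by rw [QuotientGroup.mk_mul, QuotientGroup.mk_inv]; exact hv))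
    have hfK : K' ≤ f.ker := fun k hk => by
      show (QuotientGroup.mk (cj k) : N ⧸ K') * (QuotientGroup.mk k)⁻¹ = 1
      rw [← QuotientGroup.mk_inv, ← QuotientGroup.mk_mul]
      refine (QuotientGroup.eq_one_iff _).2 ?_
      exact K.mul_mem (‹K.Normal›.conj_mem _ hk x) (K.inv_mem hk)
    have hsurj : Function.Surjective (QuotientGroup.lift K' f hfK) := by
      refine Finite.surjective_of_injective ?_
      rw [injective_iff_map_eq_one]
      intro q
      induction q using QuotientGroup.induction_on with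
      | H v => exact fun hv => (QuotientGroup.eq_one_iff v).2 (hker v hv)
    ext w
    obtain ⟨q, hq⟩ := hsurj (QuotientGroup.mk w)
    induction q using QuotientGroup.induction_on with
    | H v =>
      have hmem := QuotientGroup.eq.1 (show (QuotientGroup.mk
        (⟨x * v * x⁻¹, ‹N.Normal›.conj_mem v v.2 x⟩ * v⁻¹ : N) : N ⧸ K') = QuotientGroup.mk w
          from hq)
      have := l.2 _ hmem
      rw [map_mul, map_inv, map_mul, map_inv, hl v, mul_inv_cancel, inv_one, one_mul] at this
      rw [this]; rfl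
  -- the degree `f` occurs
  have hf : N.index = m ∨ N.index = n := by
    obtain ⟨l1, hl1⟩ : ∃ l1 : Lam, l1.1 ≠ 1 := by
      by_contra h
      push Not at h
      have : Nat.card Lam ≤ 1 := by
        haveI : Subsingleton Lam := ⟨fun a b => Subtype.ext ((h a).trans (h b).symm)⟩
        exact Finite.card_le_one_iff_subsingleton.2 inferInstance
      omega
    have hirr1 := isIrrCharacter_of_hom l1.1
    have hI1 : N = Clifford.inertia ‹N.Normal› (fun v : N => (l1.1 v : ℂ)) := by
      refine le_antisymm (Clifford.le_inertia _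
        (isClassFunction_of_isCharacter (isCharacter_of_irr hirr1))) fun x hx => ?_
      by_contra hxN
      exact hl1 (hfix x hxN l1 fun v => Units.ext (Clifford.mem_inertia.1 hx v))
    obtain ⟨hj, hj1, -, -⟩ := LinearTwist.indFun_irr_of_inertia ‹N.Normal› hirr1 N hI1 le_rfl
      hirr1 (fun _ => rfl)
    have : charDegree (indFun N fun v : N => (l1.1 v : ℂ)) = N.index :=
      LinearTwist.charDegree_eq_of_apply_one (by rw [hj1, map_one, Units.val_one, mul_one])
    rcases hdeg ⟨_, hj⟩ with h | h | h <;> rw [show charDegree ((⟨_, hj⟩ : IrrCharacter G) :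
      G → ℂ) = charDegree (indFun N fun v : N => (l1.1 v : ℂ)) from rfl, this] at h
    · omega
    · exact Or.inl h
    · exact Or.inr h
  obtain ⟨g, hg1, hgcop, hgd⟩ : ∃ g, 1 < g ∧ N.index.Coprime g ∧ DegIn G N.index g := by
    rcases hf with hf | hf <;> rw [hf]
    · exact ⟨n, hn, hcop, hdeg⟩
    · exact ⟨m, hm, hcop.symm, hdeg.symm⟩
  refine derived_two (m := g) fun ψ => ?_
  set d := charDegree (ψ : N → ℂ) with hd
  have hd0 : 0 < d := charDegree_irr_pos ψ
  by_cases hdV : d.Coprime K'.index
  · have hres := res_irr_of_coprime K' ψ (by rw [← hd]; exact hdV)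
    have key : ∃ l : Lam, ∀ x ∈ Clifford.inertia ‹N.Normal›
        (fun v : N => (ψ : N → ℂ) v * (l.1 v : ℂ)), x ∈ N := by
      by_contra hbad
      push Not at hbad
      choose x hx hxN using hbad
      haveI : Finite Lam := Subtype.finite
      let F : Lam → {q : G ⧸ N // q ≠ 1} := fun l =>
        ⟨QuotientGroup.mk (x l), fun h => hxN l ((QuotientGroup.eq_one_iff _).1 h)⟩
      have hcard : Nat.card {q : G ⧸ N // q ≠ 1} < Nat.card Lam := by
        haveI := Fintype.ofFinite (G ⧸ N)
        rw [hcardL, Nat.card_eq_fintype_card, Fintype.card_subtype_compl,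
          Fintype.card_subtype_eq, ← Nat.card_eq_fintype_card, ← Subgroup.index_eq_card]
        have := Nat.le_of_dvd (by omega) hfv
        omega
      obtain ⟨l, l', hne, hll⟩ : ∃ l l', l ≠ l' ∧ F l = F l' := by
        by_contra h
        push Not at h
        exact hcard.not_ge (Nat.card_le_card_of_injective F fun a b hab' => by
          by_contra hne; exact h a b hne hab')
      have hq : (x l)⁻¹ * x l' ∈ N := QuotientGroup.eq.1 (congrArg Subtype.val hll)
      set I := Clifford.inertia ‹N.Normal› (fun v : N => (ψ : N → ℂ) v * (l'.1 v : ℂ))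
      have hcl' := isClassFunction_of_isCharacter
        (isCharacter_of_irr (LinearTwist.isIrr_mul_hom ψ.2 l'.1))
      have hxl' : x l ∈ I := by
        rw [show x l = x l' * ((x l)⁻¹ * x l')⁻¹ by group]
        exact I.mul_mem (hx l') (I.inv_mem (Clifford.le_inertia _ hcl' hq))
      have e1 := Clifford.mem_inertia.1 (hx l)
      have e2 := Clifford.mem_inertia.1 hxl'
      let cj : N →* N := Clifford.conjHom ‹N.Normal› (x l)
      have hcjK : ∀ k ∈ K', cj k ∈ K' := fun k hk => ‹K.Normal›.conj_mem _ hk (x l)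
      have hf : l.1 * (l.1.comp cj)⁻¹ = l'.1 * (l'.1.comp cj)⁻¹ := by
        refine LinearTwist.hom_eq_of_mul_eq K' (irr_isCharacter ψ) hres _ _ (fun k => ?_)
          fun v => ?_
        · simp [l.2 _ k.2, l'.2 _ k.2, l.2 _ (hcjK _ k.2), l'.2 _ (hcjK _ k.2)]
        · have a1 : (ψ : N → ℂ) (cj v) * (l.1 (cj v) : ℂ) = (ψ : N → ℂ) v * (l.1 v : ℂ) := e1 v
          have a2 : (ψ : N → ℂ) (cj v) * (l'.1 (cj v) : ℂ) = (ψ : N → ℂ) v * (l'.1 v : ℂ) := e2 v
          simp only [MonoidHom.mul_apply, MonoidHom.inv_apply, MonoidHom.comp_apply, Units.val_mul,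
            ← mul_assoc]
          rw [← a1, ← a2, Units.mul_inv_cancel_right, Units.mul_inv_cancel_right]
      refine hne (Subtype.ext (mul_inv_eq_one.1 (hfix (x l) (hxN l)
        ⟨l.1 * l'.1⁻¹, fun k hk => by simp [l.2 k hk, l'.2 k hk]⟩ fun v => ?_)))
      have hv := DFunLike.congr_fun hf v
      simp only [MonoidHom.mul_apply, MonoidHom.inv_apply, MonoidHom.comp_apply] at hv ⊢
      show l.1 (cj v) * (l'.1 (cj v))⁻¹ = l.1 v * (l'.1 v)⁻¹
      rw [mul_inv_eq_iff_eq_mul] at hv
      rw [hv]; simp [mul_assoc, mul_comm, mul_left_comm]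
    obtain ⟨l, hl⟩ := key
    have hirr := LinearTwist.isIrr_mul_hom ψ.2 l.1
    have hI : N = Clifford.inertia ‹N.Normal› (fun v : N => (ψ : N → ℂ) v * (l.1 v : ℂ)) :=
      le_antisymm (Clifford.le_inertia _ (isClassFunction_of_isCharacter (isCharacter_of_irr hirr)))
        hl
    obtain ⟨hi, hi1, -, -⟩ := LinearTwist.indFun_irr_of_inertia ‹N.Normal› hirr N hI le_rfl hirr
      (fun _ => rfl)
    have he : charDegree (indFun N fun v : N => (ψ : N → ℂ) v * (l.1 v : ℂ)) = N.index * d :=
      LinearTwist.charDegree_eq_of_apply_one (by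
        rw [hi1, map_one, Units.val_one, mul_one, irr_one_eq_charDegree, Nat.cast_mul])
    left
    rcases hgd ⟨_, hi⟩ with h | h | h <;> rw [show charDegree ((⟨_, hi⟩ : IrrCharacter G) :
        G → ℂ) = charDegree (indFun N fun v : N => (ψ : N → ℂ) v * (l.1 v : ℂ)) from rfl, he] at h
    · have := Nat.eq_one_of_mul_eq_one_right h; omega
    · exact Nat.eq_of_mul_eq_mul_left (show 0 < N.index by omega) (h.trans (mul_one _).symm)
    · exfalso
      have := Nat.eq_one_of_dvd_coprimes hgcop dvd_rfl ⟨d, h.symm⟩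
      omega
  · obtain ⟨χ, -, k, hk, hkd⟩ := exists_above N ψ
    rw [← hd] at hk
    have hdd : d ∣ charDegree (χ : G → ℂ) := hk ▸ dvd_mul_left d k
    rcases hgd χ with h | h | h <;> rw [h] at hk hdd
    · exact absurd (by rw [Nat.eq_one_of_dvd_one hdd]; exact Nat.coprime_one_left _) hdV
    · exact absurd (Nat.Coprime.coprime_dvd_left hdd hfV) hdV
    · have hk1 : k = 1 := Nat.eq_one_of_dvd_coprimes hgcop hkd (Dvd.intro _ hk.symm)
      rw [hk1, one_mul] at hk
      exact Or.inr hk.symm

end CfsgLib.ThreeDegrees
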