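import Cfsg.Agent.Lib.ThreeDegrees.Monomial
import Cfsg.Agent.Lib.ThreeDegrees.Section
import Cfsg.Agent.Lib.ThreeDegrees.Perfect

/-!
# A group with three character degrees has derived length at most three
-/

set_option autoImplicit false
set_option linter.style.haveILetI false
set_option linter.unusedSectionVars false

namespace CfsgLib.ThreeDegrees

open Cfsg CfsgLib.Characters CfsgLib.CharCorr
open scoped ComplexConjugate commutatorElement

universe u

variable {G : Type u} [Group G] [Fintype G] {m n : ℕ}

/-- One degree is a power of `q`, the other is not. -/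
theorem of_mixed (q k a : ℕ) (hdeg : DegIn G (q ^ a) n) (hq : q.Prime)
    (L : Subgroup G) [L.Normal] (hcard : (Nat.card L).Coprime q) (hk : L.index = q ^ k)
    (hn : ∀ j, n ≠ q ^ j) (hn0 : n ≠ 0)
    (hL : ∀ θ : IrrCharacter L, ∃ χ : IrrCharacter G, ∃ j : ℕ,
      charDegree (χ : G → ℂ) = q ^ j * charDegree (θ : L → ℂ)) :
    derivedSeries G 3 = ⊥ := by
  classical
  haveI := Fintype.ofFinite L
  -- `L` has two degrees
  obtain ⟨e, n', hnd, hn'⟩ := Nat.exists_eq_pow_mul_and_not_dvd
    (n := n) (fun h => by
      subst h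
      exact hn0 rfl)
    q hq.ne_one
  have hsplit : ∀ j e d c : ℕ, ¬ q ∣ d → ¬ q ∣ c → q ^ j * d = q ^ e * c → d = c := by
    intro j e d c hd hc h
    have h1 : d ∣ q ^ e * c := h ▸ dvd_mul_left d _
    have h2 : c ∣ q ^ j * d := h.symm ▸ dvd_mul_left c _
    exact Nat.dvd_antisymm
      ((Nat.Coprime.pow_right e ((hq.coprime_iff_not_dvd.2 hd).symm)).dvd_of_dvd_mul_left h1)
      ((Nat.Coprime.pow_right j ((hq.coprime_iff_not_dvd.2 hc).symm)).dvd_of_dvd_mul_left h2)
  have hLd : ∀ θ : IrrCharacter L, charDegree (θ : L → ℂ) = 1 ∨ charDegree (θ : L → ℂ) = n' := by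
    intro θ
    have hθq : ¬ q ∣ charDegree (θ : L → ℂ) := fun h =>
      hq.one_lt.ne' (Nat.eq_one_of_dvd_coprimes hcard (h.trans (charDegree_irr_dvd_card θ)) dvd_rfl)
    obtain ⟨χ, j, hj⟩ := hL θ
    rcases hdeg χ with h | h | h <;> rw [hj] at h
    · exact Or.inl (Nat.eq_one_of_mul_eq_one_left h)
    · exact Or.inl (hsplit j a _ 1 hθq hq.not_dvd_one (h.trans (mul_one _).symm))
    · exact Or.inr (hsplit j e _ n' hθq hnd (h.trans hn'))
  have hL2 := derived_two hLd
  -- the quotient by the derived subgroup of `L` has two degrees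
  set M : Subgroup G := (derivedSeries L 1).map L.subtype with hM
  haveI hMn : M.Normal := by
    rw [hM, derivedSeries_one, commutator_def, Subgroup.map_commutator, ← MonoidHom.range_eq_map,
      L.range_subtype]
    infer_instance
  have hG2 : derivedSeries G 2 ≤ M := by
    refine derived_le_of_quot M (derived_two (m := q ^ a) fun η => ?_)
    rw [← infl_degree M η]
    rcases hdeg (Chars17.infl M η) with h | h | h
    · exact Or.inl h
    · exact Or.inr h
    · exfalso
      obtain ⟨θ, hθ, j, hj, hjd⟩ := exists_below L (Chars17.infl M η)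
      have hθ1 : charDegree (θ : L → ℂ) = 1 := by
        refine LinearTwist.charDegree_eq_of_apply_one (n := 1) ?_
        rw [Nat.cast_one]
        refine CharMonomial.degree_one_of_commutator θ.2 fun x y =>
          CharMonomial.constituent_eq_degree (Clifford.isCharacter_subtype (irr_isCharacter _) L)
            hθ ?_
        have hmem : ((x * y * (y * x)⁻¹ : L) : G) ∈ M := by
          refine ⟨x * y * (y * x)⁻¹, ?_, rfl⟩
          rw [SetLike.mem_coe, derivedSeries_one, show x * y * (y * x)⁻¹ = ⁅x, y⁆ by
            rw [commutatorElement_def, mul_inv_rev]; group]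
          exact Subgroup.commutator_mem_commutator (Subgroup.mem_top x) (Subgroup.mem_top y)
        exact Chars17.mem_irrKer.1 (Chars17.le_irrKer_infl M η hmem)
      rw [hθ1, mul_one, h] at hj
      rw [hk] at hjd
      obtain ⟨i, -, hi⟩ := (Nat.dvd_prime_pow hq).1 hjd
      exact hn i (hj.trans hi)
  have h3 := derived_le_map_add L (a := 2) (b := 1) hG2 1
  rwa [show (1 + 1 : ℕ) = 2 from rfl, hL2, Subgroup.map_bot, le_bot_iff] at h3

/-- A prime divides all nonlinear degrees. -/
theorem of_common_prime (hdeg : DegIn G m n) (hm : 1 < m) (hmn : m < n)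
    (hmm : ∃ χ : IrrCharacter G, charDegree (χ : G → ℂ) = m) (q : ℕ) (hq : q.Prime)
    (hqm : q ∣ m) (hqn : q ∣ n)
    (ih : ∀ (H : Type u) [Group H] [Fintype H], Nat.card H < Nat.card G → ∀ a b : ℕ,
      DegIn H a b → derivedSeries H 3 = ⊥) :
    derivedSeries G 3 = ⊥ := by
  classical
  haveI := Fact.mk hq
  obtain ⟨L, hLn, hcard, k, hk⟩ := Cfsg.Agent.S4456.result q hq fun χ hχ => by
    rcases hdeg χ with h | h | h
    · exact absurd h hχ
    · rw [h]; exact hqm
    · rw [h]; exact hqn
  haveI := hLn
  haveI := Fintype.ofFinite L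
  have hlt : Nat.card L < Nat.card G := by
    refine lt_of_le_of_ne L.card_le_card_group fun h => ?_
    obtain ⟨χ, hχ⟩ := hmm
    exact hq.one_lt.ne' (Nat.eq_one_of_dvd_coprimes hcard
      (h ▸ (hqm.trans (hχ ▸ charDegree_irr_dvd_card χ))) dvd_rfl)
  have hL : ∀ θ : IrrCharacter L, ∃ χ : IrrCharacter G, ∃ j : ℕ,
      charDegree (χ : G → ℂ) = q ^ j * charDegree (θ : L → ℂ) := by
    intro θ
    obtain ⟨χ, -, c, hc, hcd⟩ := exists_above L θ
    rw [hk] at hcd
    obtain ⟨j, -, rfl⟩ := (Nat.dvd_prime_pow hq).1 hcd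
    exact ⟨χ, j, hc⟩
  by_cases hma : ∃ a, m = q ^ a
  · obtain ⟨a, rfl⟩ := hma
    by_cases hnb : ∃ b, n = q ^ b
    · obtain ⟨b, rfl⟩ := hnb
      -- `L` is abelian and all characters are monomial
      have hab : ∀ x ∈ L, ∀ y ∈ L, x * y = y * x := by
        intro x hx y hy
        refine congrArg Subtype.val (CfsgLib.ItoMichler.comm_of_degree_one (G := L) (fun θ => ?_)
          ⟨x, hx⟩ ⟨y, hy⟩)
        obtain ⟨χ, j, hj⟩ := hL θ
        have hdvd : ∃ i, charDegree (χ : G → ℂ) = q ^ i := by
          rcases hdeg χ with h | h | h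
          exacts [⟨0, by rw [h, pow_zero]⟩, ⟨a, h⟩, ⟨b, h⟩]
        obtain ⟨i, hi⟩ := hdvd
        exact Nat.eq_one_of_dvd_coprimes (Nat.Coprime.pow_right i hcard)
          (charDegree_irr_dvd_card θ) (Dvd.intro_left _ (hj.symm.trans hi))
      have hM := fun χ => monomial_of_abelian_primePow q k L hab hk χ
      have h1 : ∀ ψ : IrrCharacter G, charDegree (ψ : G → ℂ) = 1 →
          derivedSeries G 1 ≤ Chars17.irrKer ψ := fun ψ hψ =>
        monomial_step 0 ψ (hM ψ) fun φ hφ => by
          have := charDegree_irr_pos φ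
          omega
      have h2 : ∀ ψ : IrrCharacter G, charDegree (ψ : G → ℂ) = q ^ a →
          derivedSeries G 2 ≤ Chars17.irrKer ψ := fun ψ hψ =>
        monomial_step 1 ψ (hM ψ) fun φ hφ => by
          rcases hdeg φ with h | h | h
          · exact h1 φ h
          · omega
          · omega
      have h3 : ∀ ψ : IrrCharacter G, derivedSeries G 3 ≤ Chars17.irrKer ψ := fun ψ =>
        monomial_step 2 ψ (hM ψ) fun φ hφ => by
          rcases hdeg φ with h | h | h
          · exact (derivedSeries_antitone G one_le_two).trans (h1 φ h)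
          · exact h2 φ h
          · exfalso; rcases hdeg ψ with h' | h' | h' <;> omega
      rw [Subgroup.eq_bot_iff_forall]
      exact fun x hx => Chars17.eq_one_of_forall_irr fun ψ => Chars17.mem_irrKer.1 (h3 ψ hx)
    · push Not at hnb
      exact of_mixed q k a hdeg hq L hcard hk hnb (by omega) hL
  · push Not at hma
    by_cases hnb : ∃ b, n = q ^ b
    · obtain ⟨b, rfl⟩ := hnb
      exact of_mixed q k b hdeg.symm hq L hcard hk hma (by omega) hL
    · push Not at hnb
      -- `G` and `L` have the same derived subgroup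
      have hL3 : derivedSeries L 3 = ⊥ := by
        obtain ⟨e, m', hmd, hm'⟩ := Nat.exists_eq_pow_mul_and_not_dvd (n := m) (by omega) q hq.ne_one
        obtain ⟨e', n', hnd, hn'⟩ := Nat.exists_eq_pow_mul_and_not_dvd (n := n) (by omega) q hq.ne_one
        refine ih L hlt m' n' fun θ => ?_
        have hθq : (charDegree (θ : L → ℂ)).Coprime q :=
          hcard.coprime_dvd_left (charDegree_irr_dvd_card θ)
        have hcp : ∀ c, ¬ q ∣ c → c.Coprime q := fun c hc => (hq.coprime_iff_not_dvd.2 hc).symm
        obtain ⟨χ, j, hj⟩ := hL θ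
        have key : ∀ e c, c.Coprime q → q ^ j * charDegree (θ : L → ℂ) = q ^ e * c →
            charDegree (θ : L → ℂ) = c := fun e c hc h => Nat.dvd_antisymm
          ((hθq.pow_right e).dvd_of_dvd_mul_left (h ▸ dvd_mul_left _ _))
          ((hc.pow_right j).dvd_of_dvd_mul_left (h.symm ▸ dvd_mul_left _ _))
        rcases hdeg χ with h | h | h <;> rw [hj] at h
        · exact Or.inl (Nat.eq_one_of_mul_eq_one_left h)
        · exact Or.inr (Or.inl (key e m' (hcp _ hmd) (h.trans hm')))
        · exact Or.inr (Or.inr (key e' n' (hcp _ hnd) (h.trans hn')))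
      set M : Subgroup G := (derivedSeries L 1).map L.subtype with hM
      haveI hMn : M.Normal := by
        rw [hM, derivedSeries_one, commutator_def, Subgroup.map_commutator,
          ← MonoidHom.range_eq_map, L.range_subtype]
        infer_instance
      have hG1 : derivedSeries G 1 ≤ M := by
        rw [derivedSeries_one]
        refine commutator_le_of_quot_linear M fun χ hχ => ?_
        obtain ⟨θ, hθ, j, hj, hjd⟩ := exists_below L χ
        have hθ1 : charDegree (θ : L → ℂ) = 1 := by
          refine LinearTwist.charDegree_eq_of_apply_one (n := 1) ?_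
          rw [Nat.cast_one]
          refine CharMonomial.degree_one_of_commutator θ.2 fun x y =>
            CharMonomial.constituent_eq_degree (Clifford.isCharacter_subtype (irr_isCharacter _) L)
              hθ ?_
          have hmem : ((x * y * (y * x)⁻¹ : L) : G) ∈ M := by
            refine ⟨x * y * (y * x)⁻¹, ?_, rfl⟩
            rw [SetLike.mem_coe, derivedSeries_one, show x * y * (y * x)⁻¹ = ⁅x, y⁆ by
              rw [commutatorElement_def, mul_inv_rev]; group]
            exact Subgroup.commutator_mem_commutator (Subgroup.mem_top x) (Subgroup.mem_top y)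
          exact Chars17.mem_irrKer.1 (hχ hmem)
        rw [hθ1, mul_one] at hj
        rw [hk] at hjd
        obtain ⟨i, -, hi⟩ := (Nat.dvd_prime_pow hq).1 hjd
        rcases hdeg χ with h | h | h
        · exact h
        · exact absurd (h.symm.trans (hj.trans hi)) (hma i)
        · exact absurd (h.symm.trans (hj.trans hi)) (hnb i)
      have h3 := derived_le_map_add L (a := 1) (b := 1) hG1 2
      rwa [show (1 + 2 : ℕ) = 3 from rfl, hL3, Subgroup.map_bot, le_bot_iff] at h3

/-- Coprime degrees. -/
theorem of_coprime (hdeg : DegIn G m n) (hm : 1 < m) (hmn : m < n)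
    (hmm : ∃ χ : IrrCharacter G, charDegree (χ : G → ℂ) = m)
    (hnn : ∃ χ : IrrCharacter G, charDegree (χ : G → ℂ) = n) (hcop : m.Coprime n)
    (ih : ∀ (H : Type u) [Group H] [Fintype H], Nat.card H < Nat.card G → ∀ a b : ℕ,
      DegIn H a b → derivedSeries H 3 = ⊥) :
    derivedSeries G 3 = ⊥ := by
  classical
  have hn : 1 < n := by omega
  by_cases hK : ∃ K : Subgroup G, ∃ _ : K.Normal,
      ¬ commutator G ≤ K ∧ Group.IsSolvable (G ⧸ K)
  · obtain ⟨K, ⟨hKn, hKna, hKs⟩, hmax⟩ :=
      Set.Finite.exists_maximal (Set.toFinite {K : Subgroup G | ∃ _ : K.Normal,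
        ¬ commutator G ≤ K ∧ Group.IsSolvable (G ⧸ K)}) hK
    haveI := hKn
    haveI := hKs
    set X := G ⧸ K
    set π := QuotientGroup.mk' K with hπ
    have hsurj : Function.Surjective π := QuotientGroup.mk'_surjective _
    have hcomm : (commutator G).map π = commutator X := by
      rw [commutator_def, commutator_def, Subgroup.map_commutator,
        Subgroup.map_top_of_surjective π hsurj]
    have hna : commutator X ≠ ⊥ := by
      rw [← hcomm, Ne, Subgroup.map_eq_bot_iff, hπ, QuotientGroup.ker_mk']
      exact hKna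
    have hmin : ∀ M : Subgroup X, M.Normal → M ≠ ⊥ → commutator X ≤ M := by
      intro M hM hM1
      rw [← hcomm, Subgroup.map_le_iff_le_comap]
      by_contra hle
      haveI := hM
      have hKM : K ≤ M.comap π := fun x hx => by
        show π x ∈ M
        rw [hπ, QuotientGroup.mk'_apply, (QuotientGroup.eq_one_iff x).2 hx]
        exact M.one_mem
      have hs : Group.IsSolvable (G ⧸ M.comap π) := by
        refine solvable_of_surjective (f := QuotientGroup.map K (M.comap π) (MonoidHom.id G) hKM) ?_
        intro y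
        induction y using QuotientGroup.induction_on with | H g => exact ⟨(g : G ⧸ K), rfl⟩
      have := hmax (y := M.comap π) ⟨inferInstance, hle, hs⟩ hKM
      refine hM1 ?_
      rw [← Subgroup.map_comap_eq_self_of_surjective hsurj M, le_antisymm this hKM]
      rw [Subgroup.map_eq_bot_iff, hπ, QuotientGroup.ker_mk']
    rcases pgroup_or_free hna hmin with ⟨p, hp, hpX⟩ | hfree
    · exfalso
      obtain ⟨η, hη⟩ : ∃ η : IrrCharacter X, charDegree (η : X → ℂ) ≠ 1 := by
        by_contra h
        push Not at h
        exact hna (commutator_eq_bot_of_linear h)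
      rcases (hdeg.quot K η) with h | h | h
      · exact hη h
      · exact not_primePow_quot hdeg hcop hm hn hnn p hp K hpX η h
      · exact not_primePow_quot hdeg.symm hcop.symm hn hm hmm p hp K hpX η h
    · set N : Subgroup G := (commutator X).comap π with hN
      haveI := Fintype.ofFinite N
      have hKN : K ≤ N := fun x hx => by
        show π x ∈ commutator X
        rw [hπ, QuotientGroup.mk'_apply, (QuotientGroup.eq_one_iff x).2 hx]
        exact Subgroup.one_mem _
      have habN : commutator N ≤ K.subgroupOf N := by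
        rw [commutator_def, Subgroup.commutator_le]
        intro x _ y _
        show ((⁅x, y⁆ : N) : G) ∈ K
        rw [← QuotientGroup.eq_one_iff]
        show π ⁅(x : G), (y : G)⁆ = 1
        rw [map_commutatorElement]
        exact commutatorElement_eq_one_iff_mul_comm.2 (comm_commutator hmin _ x.2 _ y.2)
      have hNt : N ≠ ⊤ := fun h => by
        have hX : commutator X = ⊤ := by
          rw [← Subgroup.map_comap_eq_self_of_surjective hsurj (commutator X), ← hN, h,
            Subgroup.map_top_of_surjective π hsurj]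
        obtain ⟨d, hd⟩ := Group.IsSolvable.solvable (G := X)
        have hall : ∀ i, derivedSeries X i = ⊤ := fun i => by
          induction i with
          | zero => rfl
          | succ i ih => rw [derivedSeries_succ, ih, ← commutator_def, hX]
        exact hna (le_bot_iff.1 (le_top.trans (le_of_eq ((hall d).symm.trans hd))))
      have hKN' : K ≠ N := fun h => hna (by
        rw [← Subgroup.map_comap_eq_self_of_surjective hsurj (commutator X), ← hN, ← h,
          Subgroup.map_eq_bot_iff, hπ, QuotientGroup.ker_mk'])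
      have hfree' : ∀ x ∉ N, ∀ v ∈ N, x * v * x⁻¹ * v⁻¹ ∈ K → v ∈ K := fun x hx v hv h => by
        rw [← QuotientGroup.eq_one_iff]
        refine hfree (π x) hx (π v) hv (commutatorElement_eq_one_iff_mul_comm.1 ?_)
        rw [← map_commutatorElement]
        exact (QuotientGroup.eq_one_iff _).2 (by rwa [commutatorElement_def])
      have h2 := of_free K N hKN habN hNt hKN' hfree' hcop hm hn hdeg
      have hG1 : derivedSeries G 1 ≤ (derivedSeries N 0).map N.subtype := by
        rw [derivedSeries_zero, derivedSeries_one, ← MonoidHom.range_eq_map, N.range_subtype, hN,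
          ← Subgroup.map_le_iff_le_comap, hcomm]
      have h3 := derived_le_map_add N (a := 1) (b := 0) hG1 2
      rwa [show (1 + 2 : ℕ) = 3 from rfl, show (0 + 2 : ℕ) = 2 from rfl, h2, Subgroup.map_bot,
        le_bot_iff] at h3
  · exfalso
    push Not at hK
    -- proper quotients are abelian
    have hq : ∀ M : Subgroup G, M.Normal → M ≠ ⊥ → commutator G ≤ M := by
      intro M hM hM1
      haveI := hM
      by_contra hle
      haveI := Fintype.ofFinite (G ⧸ M)
      refine hK M hM hle ⟨⟨3, ih (G ⧸ M) ?_ m n (hdeg.quot M)⟩⟩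
      rw [← Subgroup.index_eq_card, ← M.card_mul_index]
      exact lt_mul_of_one_lt_left (Nat.pos_of_ne_zero Subgroup.index_ne_zero_of_finite)
        (M.one_lt_card_iff_ne_bot.2 hM1)
    refine no_faithful hdeg hm hmn hcop hmm hnn fun χ hχ => ?_
    have hle : ¬ commutator G ≤ Chars17.irrKer χ := fun h => by
      refine hχ (LinearTwist.charDegree_eq_of_apply_one (n := 1) ?_)
      rw [Nat.cast_one]
      refine CharMonomial.degree_one_of_commutator χ.2 fun x y => Chars17.mem_irrKer.1 (h ?_)
      rw [show x * y * (y * x)⁻¹ = ⁅x, y⁆ by rw [commutatorElement_def, mul_inv_rev]; group]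
      exact Subgroup.commutator_mem_commutator (Subgroup.mem_top x) (Subgroup.mem_top y)
    refine ⟨?_, hle⟩
    by_contra hne
    refine hle (hq _ ?_ hne)
    exact ⟨fun x hx g => Chars17.mem_irrKer.2 (by
      rw [irr_isClassFunction χ x g, Chars17.mem_irrKer.1 hx])⟩

/-- **Three character degrees.** -/
theorem main (N : ℕ) : ∀ (H : Type u) [Group H] [Fintype H], Nat.card H = N → ∀ a b : ℕ,
    DegIn H a b → derivedSeries H 3 = ⊥ := by
  induction N using Nat.strong_induction_on with
  | _ N ih =>
    intro H _ _ hN a b hdeg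
    subst hN
    have two : ∀ c, (∀ χ : IrrCharacter H, charDegree (χ : H → ℂ) = 1 ∨
        charDegree (χ : H → ℂ) = c) → derivedSeries H 3 = ⊥ := fun c h =>
      le_bot_iff.1 (derived_two h ▸ derivedSeries_antitone H (by norm_num))
    by_cases hma : ∀ χ : IrrCharacter H, charDegree (χ : H → ℂ) = a →
        charDegree (χ : H → ℂ) = 1 ∨ charDegree (χ : H → ℂ) = b
    · exact two b fun χ => (hdeg χ).elim Or.inl fun h => h.elim (hma χ) Or.inr
    by_cases hnb : ∀ χ : IrrCharacter H, charDegree (χ : H → ℂ) = b →
        charDegree (χ : H → ℂ) = 1 ∨ charDegree (χ : H → ℂ) = a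
    · exact two a fun χ => (hdeg χ).elim Or.inl fun h => h.elim Or.inr (hnb χ)
    push Not at hma hnb
    obtain ⟨χa, hχa, ha1, hab⟩ := hma
    obtain ⟨χb, hχb, hb1, -⟩ := hnb
    rw [hχa] at ha1 hab
    rw [hχb] at hb1
    have ha : 1 < a := by have := charDegree_irr_pos χa; omega
    have hb : 1 < b := by have := charDegree_irr_pos χb; omega
    have ih' : ∀ (K : Type u) [Group K] [Fintype K], Nat.card K < Nat.card H → ∀ c d : ℕ,
        DegIn K c d → derivedSeries K 3 = ⊥ := fun K _ _ hlt => ih _ hlt K rfl
    have key : ∀ c d, DegIn H c d → 1 < c → c < d →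
        (∃ χ : IrrCharacter H, charDegree (χ : H → ℂ) = c) →
        (∃ χ : IrrCharacter H, charDegree (χ : H → ℂ) = d) → derivedSeries H 3 = ⊥ := by
      intro c d hcd hc hlt hcc hdd
      by_cases hcop : c.Coprime d
      · exact of_coprime hcd hc hlt hcc hdd hcop ih'
      · obtain ⟨q, hq, hqc, hqd⟩ := Nat.Prime.not_coprime_iff_dvd.1 hcop
        exact of_common_prime hcd hc hlt hcc q hq hqc hqd ih'
    rcases lt_or_gt_of_ne hab with h | h
    · exact key a b hdeg ha h ⟨χa, hχa⟩ ⟨χb, hχb⟩
    · exact key b a hdeg.symm hb h ⟨χb, hχb⟩ ⟨χa, hχa⟩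

end CfsgLib.ThreeDegrees
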