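import Cfsg.Agent.Lib.ThreeDegrees.Basic
import Cfsg.Agent.Lib.OddOrder.PuigSeries
import Cfsg.Agent.S0858
import Cfsg.Agent.S0859

/-!
# Three character degrees: monomial characters
-/

set_option autoImplicit false
set_option linter.style.haveILetI false
set_option linter.unusedSectionVars false

namespace CfsgLib.ThreeDegrees

open Cfsg CfsgLib.Characters CfsgLib.CharCorr
open scoped ComplexConjugate commutatorElement

universe u

variable {G : Type u} [Group G] [Fintype G]

/-- One step in Taketa's argument. -/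
theorem monomial_step (d : ℕ) (χ : IrrCharacter G)
    (hM : ∃ (U : Subgroup G) (lam : U → ℂ), IsCharacter U lam ∧ lam 1 = 1 ∧
      indFun U lam = (χ : G → ℂ))
    (hsmall : ∀ ψ : IrrCharacter G, charDegree (ψ : G → ℂ) < charDegree (χ : G → ℂ) →
      derivedSeries G d ≤ Chars17.irrKer ψ) :
    derivedSeries G (d + 1) ≤ Chars17.irrKer χ := by
  classical
  obtain ⟨H, lam0, hc, hl1, hχ⟩ := hM
  haveI := Fintype.ofFinite H
  obtain ⟨lam, rfl⟩ := LinearTwist.exists_hom_of_charDegree_one hc
    (LinearTwist.charDegree_eq_of_apply_one (n := 1) (by rw [hl1, Nat.cast_one]))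
  set e := charDegree (χ : G → ℂ) with he
  have hidx : H.index = e := by
    have h := congrFun hχ 1
    rw [Induction.indFun_one_apply, irr_one_eq_charDegree, map_one, Units.val_one, mul_one] at h
    exact_mod_cast h
  have hπ := Induction.isCharacter_indFun H (Induction.isCharacter_const_one (G := H))
  obtain ⟨m, hm, hsum⟩ := Clifford.exists_mult hπ
  have hone : m (principalIrr G) = 1 := by
    have h := hm (principalIrr G)
    rw [Induction.classInner_indFun H _ (irr_isClassFunction _)] at h
    have h1 : classInner (fun _ : H => (1 : ℂ)) (fun h : H => ((principalIrr G : G → ℂ)) h) = 1 :=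
      classInner_irr_self (isIrrCharacter_one (G := H))
    rw [h1] at h
    exact_mod_cast h.symm
  have htot : e = ∑ ψ : IrrCharacter G, m ψ * charDegree (ψ : G → ℂ) := by
    have h := congrFun hsum 1
    rw [Induction.indFun_one_apply, mul_one, hidx] at h
    simp only [Finset.sum_apply, Pi.smul_apply, smul_eq_mul, irr_one_eq_charDegree] at h
    exact_mod_cast h
  have hk1 : charDegree (principalIrr G : G → ℂ) = 1 :=
    LinearTwist.charDegree_eq_of_apply_one (by rw [principalIrr_apply, Nat.cast_one])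
  have hDH : derivedSeries G d ≤ H := by
    intro x hx
    have hval : indFun H (fun _ => (1 : ℂ)) x = indFun H (fun _ => (1 : ℂ)) 1 := by
      rw [hsum]
      simp only [Finset.sum_apply, Pi.smul_apply, smul_eq_mul]
      refine Finset.sum_congr rfl fun ψ _ => ?_
      by_cases hψ : m ψ = 0
      · simp [hψ]
      · by_cases hne : ψ = principalIrr G
        · simp [hne]
        · rw [(Chars17.mem_irrKer).1 (hsmall ψ ?_ hx)]
          have h2 : m (principalIrr G) * charDegree (principalIrr G : G → ℂ) +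
              m ψ * charDegree (ψ : G → ℂ) ≤ e := by
            rw [htot, ← Finset.sum_pair (f := fun ψ : IrrCharacter G =>
              m ψ * charDegree (ψ : G → ℂ)) (Ne.symm hne)]
            exact Finset.sum_le_sum_of_subset (Finset.subset_univ _)
          rw [hone, hk1] at h2
          have := Nat.le_mul_of_pos_left (charDegree (ψ : G → ℂ)) (Nat.pos_of_ne_zero hψ)
          omega
    by_contra hxH
    rw [Induction.indFun_one_apply, mul_one, Induction.indFun_apply] at hval
    rw [inv_mul_eq_iff_eq_mul₀ (Nat.cast_ne_zero.2 Nat.card_pos.ne'), ← Nat.cast_mul,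
      H.card_mul_index] at hval
    have hcount : ∑ y : G, extendByZero H (fun _ => (1 : ℂ)) (y⁻¹ * x * y) =
        ((Finset.univ.filter fun y : G => y⁻¹ * x * y ∈ H).card : ℂ) := by
      rw [← Finset.sum_boole]
      refine Finset.sum_congr rfl fun y _ => ?_
      by_cases hy : y⁻¹ * x * y ∈ H
      · rw [Induction.extendByZero_mem H _ hy, if_pos hy]
      · rw [Induction.extendByZero_notMem H _ hy, if_neg hy]
    rw [hcount, Nat.card_eq_fintype_card, Nat.cast_inj] at hval
    have h1 : (1 : G) ∈ Finset.univ.filter fun y : G => y⁻¹ * x * y ∈ H := by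
      rw [(Finset.card_eq_iff_eq_univ _).1 hval]
      exact Finset.mem_univ _
    exact hxH (by simpa using (Finset.mem_filter.1 h1).2)
  have hlam : ∀ x ∈ derivedSeries G (d + 1), ∀ hxH : x ∈ H, lam ⟨x, hxH⟩ = 1 := by
    intro x hx hxH
    rw [derivedSeries_succ] at hx
    have hle2 : ⁅derivedSeries G d, derivedSeries G d⁆ ≤ lam.ker.map H.subtype := by
      rw [Subgroup.commutator_le]
      intro a ha b hb
      refine ⟨⁅(⟨a, hDH ha⟩ : H), (⟨b, hDH hb⟩ : H)⁆, ?_, rfl⟩
      show lam _ = 1
      rw [map_commutatorElement]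
      exact commutatorElement_eq_one_iff_mul_comm.2 (mul_comm _ _)
    obtain ⟨y, hy, hyx⟩ := hle2 hx
    have : y = ⟨x, hxH⟩ := Subtype.ext hyx
    exact this ▸ hy
  intro g hg
  rw [Chars17.mem_irrKer, ← hχ, Induction.indFun_apply, Induction.indFun_apply]
  congr 1
  refine Finset.sum_congr rfl fun y _ => ?_
  have hy : y⁻¹ * g * y ∈ derivedSeries G (d + 1) :=
    (derivedSeries_normal G (d + 1)).conj_mem' g hg y
  have hyH := hDH (derivedSeries_antitone G (Nat.le_succ d) hy)
  rw [Induction.extendByZero_mem H _ hyH, mul_one, inv_mul_cancel,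
    Induction.extendByZero_mem H _ H.one_mem, hlam _ hy hyH]
  exact congrArg Units.val (map_one lam).symm

/-- An abelian normal subgroup of prime power index makes every character monomial. -/
theorem monomial_of_abelian_primePow (q k : ℕ) [Fact q.Prime] (L : Subgroup G) [L.Normal]
    (hab : ∀ a ∈ L, ∀ b ∈ L, a * b = b * a) (hidx : L.index = q ^ k) (χ : IrrCharacter G) :
    ∃ (U : Subgroup G) (lam : U → ℂ), IsCharacter U lam ∧ lam 1 = 1 ∧
      indFun U lam = (χ : G → ℂ) := by
  classical
  have hQ : IsPGroup q (G ⧸ L) := IsPGroup.of_card (by rw [← Subgroup.index_eq_card]; exact hidx)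
  have hQs : Group.IsSolvable (G ⧸ L) := by
    haveI := hQ.isNilpotent
    infer_instance
  haveI : Group.IsSolvable L :=
    isSolvable_of_comm fun a b => Subtype.ext (hab a a.2 b b.2)
  haveI : Group.IsSolvable G := by
    haveI := hQs
    exact solvable_of_ker_le_range L.subtype (QuotientGroup.mk' L) (by simp)
  have hchief : ∀ (H K M : Subgroup G), L ≤ M → M < K → K ≤ H →
      (∀ h ∈ H, ∀ x ∈ K, h * x * h⁻¹ ∈ K) → (∀ h ∈ H, ∀ x ∈ M, h * x * h⁻¹ ∈ M) →
      (∀ M' : Subgroup G, M ≤ M' → M' ≤ K → (∀ h ∈ H, ∀ x ∈ M', h * x * h⁻¹ ∈ M') →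
        M' = M ∨ M' = K) → ¬ IsSquare (M.relIndex K) := by
    intro H K M hLM hMK hKH hKn hMn hmin
    let M' : Subgroup H := M.subgroupOf H
    haveI hM'n : M'.Normal := ⟨fun x hx g => hMn g g.2 x hx⟩
    let K' : Subgroup H := K.subgroupOf H
    haveI hK'n : K'.Normal := ⟨fun x hx g => hKn g g.2 x hx⟩
    have hMH : M ≤ H := hMK.le.trans hKH
    have hdvd : M'.index ∣ q ^ k := by
      rw [← hidx]
      refine dvd_trans ?_ (Subgroup.index_dvd_of_le hLM)
      rw [← Subgroup.relIndex_mul_index hMH]
      exact dvd_mul_right _ _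
    obtain ⟨j, -, hj⟩ := (Nat.dvd_prime_pow Fact.out).1 hdvd
    have hP : IsPGroup q (H ⧸ M') := IsPGroup.of_card (by rw [← Subgroup.index_eq_card]; exact hj)
    haveI := hP.isNilpotent
    let C : Subgroup (H ⧸ M') := K'.map (QuotientGroup.mk' M')
    haveI : C.Normal := Subgroup.Normal.map hK'n _ (QuotientGroup.mk'_surjective _)
    have hC : C ≠ ⊥ := by
      intro h
      rw [Subgroup.map_eq_bot_iff, QuotientGroup.ker_mk'] at h
      exact hMK.not_ge fun x hx => h (show (⟨x, hKH hx⟩ : H) ∈ K' from hx)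
    have hZ := OddOrder.PuigSeries.inf_center_ne_bot C hC
    haveI : Nontrivial (Subgroup.center (H ⧸ M') ⊓ C : Subgroup (H ⧸ M')) :=
      (Subgroup.nontrivial_iff_ne_bot _).2 hZ
    have hqd : q ∣ Nat.card (Subgroup.center (H ⧸ M') ⊓ C : Subgroup (H ⧸ M')) := by
      obtain ⟨i, hi, hci⟩ := (Nat.dvd_prime_pow Fact.out).1
        ((Subgroup.card_subgroup_dvd_card _).trans
          (show Nat.card (H ⧸ M') ∣ q ^ j by rw [← Subgroup.index_eq_card, hj]))
      rw [hci]
      refine dvd_pow_self q fun h0 => ?_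
      rw [h0, pow_zero] at hci
      exact (Finite.one_lt_card (α := (Subgroup.center (H ⧸ M') ⊓ C : Subgroup (H ⧸ M')))).ne' hci
    obtain ⟨⟨z, hzZ, hzC⟩, hzq⟩ := exists_prime_orderOf_dvd_card' q hqd
    rw [← Subgroup.orderOf_coe] at hzq
    let W : Subgroup (H ⧸ M') := Subgroup.zpowers z
    haveI hWn : W.Normal := ⟨fun y hy g => by
      have hyc : y ∈ Subgroup.center (H ⧸ M') := (Subgroup.zpowers_le.2 hzZ) hy
      rwa [Subgroup.mem_center_iff.1 hyc g, mul_inv_cancel_right]⟩
    let P : Subgroup H := W.comap (QuotientGroup.mk' M')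
    have hMP : M' ≤ P := fun x hx => by
      show (x : H ⧸ M') ∈ W
      rw [(QuotientGroup.eq_one_iff x).2 hx]; exact W.one_mem
    have hPidx : M'.relIndex P = q := by
      have h1 : P.index = W.index :=
        W.index_comap_of_surjective (QuotientGroup.mk'_surjective M')
      have h2 : Nat.card W = q := by rw [Nat.card_zpowers]; exact hzq
      have h3 := Subgroup.relIndex_mul_index hMP
      rw [h1, Subgroup.index_eq_card (H := M'), ← W.card_mul_index, h2] at h3
      exact Nat.eq_of_mul_eq_mul_right (Nat.pos_of_ne_zero Subgroup.index_ne_zero_of_finite) h3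
    have hPK : P ≤ K' := fun x hx => by
      obtain ⟨y, hy, hxy⟩ := (Subgroup.zpowers_le.2 hzC : W ≤ C) hx
      have : y⁻¹ * x ∈ M' := QuotientGroup.eq.1 hxy
      have h' : y⁻¹ * x ∈ K' := hMK.le this
      simpa using K'.mul_mem hy h'
    have hPn : P.Normal := hWn.comap _
    have hmap : M'.map H.subtype = M := by
      rw [Subgroup.map_subgroupOf_eq_of_le hMH]
    rcases hmin (P.map H.subtype) (hmap ▸ Subgroup.map_mono hMP)
      (le_trans (Subgroup.map_mono hPK) (le_of_eq (Subgroup.map_subgroupOf_eq_of_le hKH)))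
      (fun h hh x hx => by
        obtain ⟨y, hy, rfl⟩ := hx
        exact ⟨_, hPn.conj_mem y hy ⟨h, hh⟩, rfl⟩) with h | h
    · exfalso
      have : P = M' := Subgroup.map_injective Subtype.val_injective (h.trans hmap.symm)
      rw [this, Subgroup.relIndex_self] at hPidx
      exact (Fact.out : q.Prime).one_lt.ne hPidx
    · rw [← h, ← hmap, Subgroup.relIndex_map_map_of_injective _ _ Subtype.val_injective, hPidx]
      exact (Fact.out : q.Prime).prime.not_isSquare
  have hrel := Cfsg.Agent.S0858.result L hQs hchief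
  obtain ⟨U, lam, h1, h2, h3⟩ := Cfsg.Agent.S0859.result L
    (fun p _ P a _ b _ => Subtype.ext (hab a a.2 b b.2))
    (fun χ hχ => hrel χ hχ) (χ : G → ℂ) χ.2
  exact ⟨U, lam, h1, h2, h3⟩

end CfsgLib.ThreeDegrees
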